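import Cfsg.Agent.RuMult82.Data

/-!
The kernel checks of the certificate that only concern the presentation.
-/

set_option autoImplicit false
set_option maxRecDepth 100000

namespace Cfsg.Agent.RuMult82

open Cfsg.Agent.SylowTail

theorem shape_ok : cert.shapeOK = true := by decide +kernel

theorem jmat_ok : ((List.range cert.nr).all fun r => cert.jOK r) = true := by decide +kernel

theorem cert_ok :
    (cert.yOK (cert.eqns.map cert.eqVec) &&
      (List.range cert.nr).all fun r => cert.zOK (cert.eqns.map cert.eqVec) r) = true := by
  decide +kernel

theorem cert_OK : cert.OK := by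
  have h := cert_ok
  have hj := jmat_ok
  simp only [Bool.and_eq_true, List.all_eq_true, List.mem_range] at h hj
  exact ⟨shape_ok, by decide, h.1, h.2, hj⟩

end Cfsg.Agent.RuMult82
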