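import Cfsg.Agent.RuMult82.Sylow
import Cfsg.Agent.RuMult82.Check
import Cfsg.Agent.PresMult70.Sylow

/-!
The Schur multiplier of the Rudvalis permutation group has order at most two.
-/

set_option autoImplicit false
set_option maxRecDepth 100000

namespace Cfsg.Agent.RuMult82

open Cfsg.Agent.CosetEnum Cfsg.Agent.SporB.Ru Cfsg.Agent.PresMult70
open scoped commutatorElement

theorem card_H : Nat.card H = 145926144000 := g0_step.1

theorem small_rep {u : List ℕ} (hu : small u = true) : ∀ n, small (repWord u n) = true
  | 0 => rfl
  | n + 1 => small_append hu (small_rep hu n)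

theorem V_pow_eq {u w : List ℕ} (hu : small u = true) (hw : small w = true) (n : ℕ)
    (h : agree (repWord u n) w = true) : V u ^ n = V w := by
  rw [← evalWord_repWord]
  exact V_eq (small_rep hu n) hw h

theorem V_conj {h u : List ℕ} (n : ℕ) (hh : small h = true) (hu : small u = true)
    (hagree : agree (h ++ u ++ invWord h) (repWord u n) = true) :
    V h * V u * (V h)⁻¹ = V u ^ n := by
  rw [← V_invWord hh, ← evalWord_append, ← evalWord_append, ← evalWord_repWord]
  exact V_eq (small_append (small_append hh hu) (small_invWord hh)) (small_rep hu n) hagree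

theorem V_commutator {u w : List ℕ} (hu : small u = true) (hw : small w = true) :
    ⁅V u, V w⁆ = V (u ++ w ++ invWord u ++ invWord w) := by
  rw [commutatorElement_def, ← V_invWord hu, ← V_invWord hw, ← evalWord_append, ← evalWord_append,
    ← evalWord_append]

theorem V_commute {u w : List ℕ} (hu : small u = true) (hw : small w = true)
    (h : agree (u ++ w) (w ++ u) = true) : Commute (V u) (V w) := by
  show V u * V w = V w * V u
  rw [← evalWord_append, ← evalWord_append]
  exact V_eq (small_append hu hw) (small_append hw hu) h

theorem V_ne_one {u : List ℕ} (hu : small u = true) (h : baseKey u ≠ baseKey []) : V u ≠ 1 :=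
  V_ne (w := []) hu rfl h

theorem cyclic_case {E : Type} [Group E] (σ : E →* H) (hs : Function.Surjective σ)
    (hc : σ.ker ≤ Subgroup.center E) {p : ℕ} (hp : p.Prime) {u : List ℕ} (hu : small u = true)
    (h1 : agree (repWord u p) [] = true) (h2 : baseKey u ≠ baseKey [])
    (hd : ¬ p ∣ 145926144000 / p) :
    ∃ S : Subgroup H, ¬ p ∣ S.index ∧ σ.ker ⊓ ⁅S.comap σ, S.comap σ⁆ = ⊥ := by
  haveI := Fact.mk hp
  have ho : orderOf (V u) = p :=
    orderOf_eq_prime (V_pow_eq hu rfl p h1) (V_ne_one hu h2)
  refine ⟨Subgroup.zpowers (V u), ?_,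
    Cfsg.Agent.KnownSimple.inf_commutator_eq_bot_of_comm σ _ fun x hx y hy =>
      Cfsg.Agent.KnownSimple.comm_of_cyclic σ hc (Subgroup.zpowers (V u)) hs hx hy⟩
  have h := Subgroup.card_mul_index (Subgroup.zpowers (V u))
  rw [Nat.card_zpowers, ho, card_H] at h
  rwa [← h, Nat.mul_div_cancel_left _ hp.pos] at hd

theorem odd_primes {E : Type} [Group E] (σ : E →* H) (hs : Function.Surjective σ)
    (hc : σ.ker ≤ Subgroup.center E) (ℓ : ℕ) (hℓ : ℓ.Prime) (h2 : ℓ ≠ 2) :
    ∃ S : Subgroup H, ¬ ℓ ∣ S.index ∧ σ.ker ⊓ ⁅S.comap σ, S.comap σ⁆ = ⊥ := by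
  by_cases hd : ℓ ∣ 145926144000
  swap
  · exact ⟨⊥, by rw [Subgroup.index_bot, card_H]; exact hd,
      Cfsg.Agent.KnownSimple.inf_commutator_eq_bot_of_comm σ ⊥ fun x hx y hy =>
        Cfsg.Agent.KnownSimple.comm_of_cyclic σ hc ⊥ hs hx hy⟩
  have hℓ' : ℓ = 3 ∨ ℓ = 5 ∨ ℓ = 7 ∨ ℓ = 13 ∨ ℓ = 29 := by
    rw [show 145926144000 = 2 ^ 14 * 3 ^ 3 * 5 ^ 3 * 7 * 13 * 29 by norm_num] at hd
    have key : ∀ {q n : ℕ}, q.Prime → ℓ ∣ q ^ n → ℓ = q := fun hq h =>
      (Nat.prime_dvd_prime_iff_eq hℓ hq).mp (hℓ.dvd_of_dvd_pow h)
    have key1 : ∀ {q : ℕ}, q.Prime → ℓ ∣ q → ℓ = q := fun hq h =>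
      (Nat.prime_dvd_prime_iff_eq hℓ hq).mp h
    rcases hℓ.dvd_mul.mp hd with h | h
    · rcases hℓ.dvd_mul.mp h with h | h
      · rcases hℓ.dvd_mul.mp h with h | h
        · rcases hℓ.dvd_mul.mp h with h | h
          · rcases hℓ.dvd_mul.mp h with h | h
            · exact absurd (key Nat.prime_two h) h2
            · exact Or.inl (key Nat.prime_three h)
          · exact Or.inr (Or.inl (key (by norm_num) h))
        · exact Or.inr (Or.inr (Or.inl (key1 (by norm_num) h)))
      · exact Or.inr (Or.inr (Or.inr (Or.inl (key1 (by norm_num) h))))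
    · exact Or.inr (Or.inr (Or.inr (Or.inr (key1 (by norm_num) h))))
  have hcw : ∀ {u w : List ℕ}, small u = true → small w = true →
      small (u ++ w ++ invWord u ++ invWord w) = true := fun hu hw =>
    small_append (small_append (small_append hu hw) (small_invWord hu)) (small_invWord hw)
  rcases hℓ' with rfl | rfl | rfl | rfl | rfl
  · exact criterion_extraspecial σ hs hc (a := 2) (b := 2) (by norm_num) (u := V threeU)
      (v := V threeV) (h := V threeH)
      (V_pow_eq (w := []) (by decide +kernel) rfl 3 (by decide +kernel))
      (V_pow_eq (w := []) (by decide +kernel) rfl 3 (by decide +kernel))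
      (by rw [V_commutator (by decide +kernel) (by decide +kernel)]
          exact V_ne_one (by decide +kernel) (by decide +kernel))
      (by rw [V_commutator (by decide +kernel) (by decide +kernel)]
          exact V_commute (by decide +kernel) (by decide +kernel) (by decide +kernel))
      (by rw [V_commutator (by decide +kernel) (by decide +kernel)]
          exact V_commute (by decide +kernel) (by decide +kernel) (by decide +kernel))
      (V_conj 2 (by decide +kernel) (by decide +kernel) (by decide +kernel))
      (V_conj 2 (by decide +kernel) (by decide +kernel) (by decide +kernel))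
      (by rw [V_commutator (by decide +kernel) (by decide +kernel)]
          exact V_commute (by decide +kernel) (by decide +kernel) (by decide +kernel))
      (by decide) (by decide) (by rw [card_H]; norm_num)
  · exact criterion_extraspecial σ hs hc (a := 2) (b := 3) (by norm_num) (u := V fiveU)
      (v := V fiveV) (h := V fiveH)
      (V_pow_eq (w := []) (by decide +kernel) rfl 5 (by decide +kernel))
      (V_pow_eq (w := []) (by decide +kernel) rfl 5 (by decide +kernel))
      (by rw [V_commutator (by decide +kernel) (by decide +kernel)]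
          exact V_ne_one (by decide +kernel) (by decide +kernel))
      (by rw [V_commutator (by decide +kernel) (by decide +kernel)]
          exact V_commute (by decide +kernel) (by decide +kernel) (by decide +kernel))
      (by rw [V_commutator (by decide +kernel) (by decide +kernel)]
          exact V_commute (by decide +kernel) (by decide +kernel) (by decide +kernel))
      (V_conj 2 (by decide +kernel) (by decide +kernel) (by decide +kernel))
      (V_conj 3 (by decide +kernel) (by decide +kernel) (by decide +kernel))
      (by rw [V_commutator (by decide +kernel) (by decide +kernel)]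
          exact V_commute (by decide +kernel) (by decide +kernel) (by decide +kernel))
      (by decide) (by decide) (by rw [card_H]; norm_num)
  · exact cyclic_case σ hs hc (by norm_num) (u := elt7) (by decide +kernel) (by decide +kernel)
      (by decide +kernel) (by norm_num)
  · exact cyclic_case σ hs hc (by norm_num) (u := elt13) (by decide +kernel) (by decide +kernel)
      (by decide +kernel) (by norm_num)
  · exact cyclic_case σ hs hc (by norm_num) (u := elt29) (by decide +kernel) (by decide +kernel)
      (by decide +kernel) (by norm_num)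

theorem sylow_index : ¬ 2 ∣ (SylowTail.sub cert aFun).index := by
  have h := Subgroup.card_mul_index (SylowTail.sub cert aFun)
  rw [SylowTail.card_sub shape_ok holds, card_H] at h
  change 2 ^ 14 * (SylowTail.sub cert aFun).index = 145926144000 at h
  intro hd
  omega

/-- The kernel of a stem extension of the Rudvalis group has at most two elements. -/
theorem multiplier_bound {Γ : Type} [Group Γ] [Finite Γ] (σ : Γ →* H)
    (hσ : Cfsg.IsStemExtension σ) :
    ∃ π : Multiplicative (ZMod 2) →* σ.ker, Function.Surjective π :=
  SylowTail.exists_surjective_two cert_OK holds sylow_index σ hσ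
    fun ℓ hℓ h2 => odd_primes σ hσ.1 hσ.2.1 ℓ hℓ h2

end Cfsg.Agent.RuMult82
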