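import Cfsg.Agent.RuMult82.Bound
import Cfsg.Prelude.Def_Spor_Ru
import Cfsg.Prelude.Def_KGroupFacts

/-!
The double cover of the Rudvalis group inside the automorphism group of the lattice.
-/

set_option autoImplicit false

namespace Cfsg.Agent.RuMult82

open Cfsg.Spor Cfsg.Agent.SporB.Ru
open scoped commutatorElement

theorem ruRj_mem {v : RuVec} (hv : v ∈ ruLattice) : ruRj v ∈ ruLattice := by
  rw [ruLattice, AddSubgroup.mem_sInf] at hv ⊢
  intro L hL
  exact (hL.2 v (hv L hL)).2.1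

theorem ruRk_mem {v : RuVec} (hv : v ∈ ruLattice) : ruRk v ∈ ruLattice := by
  rw [ruLattice, AddSubgroup.mem_sInf] at hv ⊢
  intro L hL
  exact (hL.2 v (hv L hL)).2.2.1

theorem gI_gI (x : GaussianInt) : gI * (gI * x) = -x := by
  ext <;> simp [gI, Zsqrtd.re_mul, Zsqrtd.im_mul]

theorem ruRj_sq (v : RuVec) : ruRj (ruRj v) = -v := by
  funext ⟨a, t⟩
  fin_cases t <;> simp [ruRj, gI_gI]

theorem ruRk_sq (v : RuVec) : ruRk (ruRk v) = -v := by
  funext ⟨a, t⟩
  fin_cases t <;> simp [ruRk, gI_gI]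

theorem ruRj_neg (v : RuVec) : ruRj (-v) = -ruRj v := by
  funext ⟨a, t⟩
  fin_cases t <;> simp [ruRj]

theorem ruRk_neg (v : RuVec) : ruRk (-v) = -ruRk v := by
  funext ⟨a, t⟩
  fin_cases t <;> simp [ruRk]

theorem ruRj_ruRk (v : RuVec) : ruRj (ruRk v) = -ruRk (ruRj v) := by
  funext ⟨a, t⟩
  fin_cases t <;> simp [ruRj, ruRk, gI_gI]

/-- Right multiplication by `j` on the lattice. -/
def jPerm : Equiv.Perm ruLattice where
  toFun v := ⟨ruRj v.1, ruRj_mem v.2⟩
  invFun v := ⟨-ruRj v.1, ruLattice.neg_mem (ruRj_mem v.2)⟩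
  left_inv v := Subtype.ext (by simp [ruRj_sq])
  right_inv v := Subtype.ext (by simp [ruRj_neg, ruRj_sq])

/-- Right multiplication by `k` on the lattice. -/
def kPerm : Equiv.Perm ruLattice where
  toFun v := ⟨ruRk v.1, ruRk_mem v.2⟩
  invFun v := ⟨-ruRk v.1, ruLattice.neg_mem (ruRk_mem v.2)⟩
  left_inv v := Subtype.ext (by simp [ruRk_sq])
  right_inv v := Subtype.ext (by simp [ruRk_neg, ruRk_sq])

theorem norm_gI_mul (x : GaussianInt) : (gI * x).norm = x.norm := by
  rw [Zsqrtd.norm_mul, show gI.norm = 1 from rfl, one_mul]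

theorem jPerm_mem : jPerm ∈ fourRu := by
  refine ⟨fun v w => Subtype.ext ?_, fun v => Subtype.ext ?_, fun v => ?_⟩
  · show ruRj ((v + w : ruLattice) : RuVec) = _
    funext ⟨a, t⟩
    fin_cases t <;> simp [jPerm, ruRj, mul_add, add_comm]
  · show ruRj (gI • (v : RuVec)) = gI • ruRj (v : RuVec)
    funext ⟨a, t⟩
    fin_cases t <;> simp [ruRj]
  · show ruNorm (ruRj (v : RuVec)) = _
    simp only [ruNorm, Fintype.sum_prod_type, Fin.sum_univ_four]
    refine Finset.sum_congr rfl fun a _ => ?_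
    simp only [ruRj, norm_gI_mul, Zsqrtd.norm_neg]
    ring

theorem kPerm_mem : kPerm ∈ fourRu := by
  refine ⟨fun v w => Subtype.ext ?_, fun v => Subtype.ext ?_, fun v => ?_⟩
  · show ruRk ((v + w : ruLattice) : RuVec) = _
    funext ⟨a, t⟩
    fin_cases t <;> simp [kPerm, ruRk, mul_add, add_comm]
  · show ruRk (gI • (v : RuVec)) = gI • ruRk (v : RuVec)
    funext ⟨a, t⟩
    fin_cases t <;> simp [ruRk]
  · show ruNorm (ruRk (v : RuVec)) = _
    simp only [ruNorm, Fintype.sum_prod_type, Fin.sum_univ_four]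
    refine Finset.sum_congr rfl fun a _ => ?_
    simp only [ruRk, norm_gI_mul, Zsqrtd.norm_neg]
    ring

/-- The commutator of the two quaternion units. -/
def negOne : fourRu := ⁅(⟨jPerm, jPerm_mem⟩ : fourRu), ⟨kPerm, kPerm_mem⟩⁆

theorem negOne_apply (v : ruLattice) : (negOne.1 v : RuVec) = -(v : RuVec) := by
  show ((jPerm * kPerm * jPerm⁻¹ * kPerm⁻¹) v).1 = _
  show ruRj (ruRk (-ruRj (-ruRk v.1))) = _
  simp only [ruRk_neg, ruRj_neg, neg_neg, ruRj_ruRk, ruRj_sq, ruRk_sq]

theorem negOne_central : negOne ∈ Subgroup.center fourRu := by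
  rw [Subgroup.mem_center_iff]
  intro f
  refine Subtype.ext (Equiv.ext fun v => ?_)
  show f.1 (negOne.1 v) = negOne.1 (f.1 v)
  refine Subtype.ext ?_
  rw [negOne_apply]
  have hn : negOne.1 v = -v := Subtype.ext (negOne_apply v)
  rw [hn]
  have h0 : f.1 0 = 0 := by simpa using f.2.1 0 0
  have h := f.2.1 v (-v)
  rw [add_neg_cancel, h0] at h
  rw [eq_neg_of_add_eq_zero_right h.symm]
  rfl

theorem negOne_ne : negOne ≠ 1 := by
  intro h
  have hmem : ruTable.getD 0 0 ∈ ruLattice := by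
    rw [ruLattice, AddSubgroup.mem_sInf]
    intro L hL
    exact hL.1 _ (by simp [ruTable])
  have h1 := negOne_apply ⟨_, hmem⟩
  rw [h] at h1
  have h2 := congrFun h1 (0, 0)
  revert h2
  simp [ruTable, ruOfArray, Zsqrtd.ext_iff]

/-- The multiplier statement from an isomorphism with the permutation group. -/
theorem multiplier_of_iso (e : Ru ≃* H) (hZ : Nat.card (Subgroup.center fourRu) = 4) :
    Cfsg.HasCyclicSchurMultiplier Ru 2 := by
  haveI hfinR : Finite Ru := Finite.of_equiv _ e.toEquiv.symm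
  haveI hfinZ : Finite (Subgroup.center fourRu) := Nat.finite_of_card_ne_zero (by rw [hZ]; norm_num)
  haveI : Finite fourRu :=
    Finite.of_equiv _ (Subgroup.groupEquivQuotientProdSubgroup (s := Subgroup.center fourRu)).symm
  have bound : ∀ (Γ : Type) [Group Γ] [Finite Γ] (σ : Γ →* Ru), Cfsg.IsStemExtension σ →
      ∃ π : Multiplicative (ZMod 2) →* σ.ker, Function.Surjective π := by
    intro Γ _ _ σ hσ
    have hker : (e.toMonoidHom.comp σ).ker = σ.ker := by
      ext x
      simp [MonoidHom.mem_ker]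
    obtain ⟨π, hπ⟩ := multiplier_bound (e.toMonoidHom.comp σ)
      ⟨e.surjective.comp hσ.1, by rw [hker]; exact hσ.2.1, by rw [hker]; exact hσ.2.2⟩
    exact ⟨(MulEquiv.subgroupCongr hker).toMonoidHom.comp π,
      (MulEquiv.subgroupCongr hker).surjective.comp hπ⟩
  refine ⟨?_, bound⟩
  haveI : IsSimpleGroup H := simple_H
  haveI : Nontrivial Ru := e.toEquiv.nontrivial
  haveI : IsSimpleGroup Ru := IsSimpleGroup.isSimpleGroup_of_surjective (G := H) e.symm.toMonoidHom
    e.symm.surjective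
  have hperf : commutator Ru = ⊤ := by
    refine ((inferInstance : (commutator Ru).Normal).eq_bot_or_eq_top).resolve_left fun hbot => ?_
    haveI : IsMulCommutative Ru := ⟨⟨fun a b => by
      have : ⁅a, b⁆ ∈ commutator Ru :=
        Subgroup.commutator_mem_commutator (Subgroup.mem_top a) (Subgroup.mem_top b)
      rw [hbot, Subgroup.mem_bot] at this
      exact commutatorElement_eq_one_iff_mul_comm.mp this⟩⟩
    open scoped IsMulCommutative in
    have hp : (Nat.card Ru).Prime := IsSimpleGroup.prime_card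
    rw [Nat.card_congr e.toEquiv, card_H] at hp
    norm_num at hp
  set D : Subgroup fourRu := commutator fourRu with hD
  let σ : D →* Ru := (QuotientGroup.mk' (Subgroup.center fourRu)).comp D.subtype
  have hmap : D.map (QuotientGroup.mk' (Subgroup.center fourRu)) = ⊤ := by
    rw [hD, commutator_def, Subgroup.map_commutator,
      Subgroup.map_top_of_surjective _ (QuotientGroup.mk'_surjective _), ← commutator_def, hperf]
  have hsurj : Function.Surjective σ := fun q => by
    obtain ⟨d, hd, rfl⟩ := (hmap ▸ Subgroup.mem_top q : q ∈ D.map _)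
    exact ⟨⟨d, hd⟩, rfl⟩
  have hsplit : ∀ x : fourRu, ∃ d ∈ D, ∃ z ∈ Subgroup.center fourRu, x = d * z := by
    intro x
    obtain ⟨⟨d, hd⟩, hdx⟩ := hsurj (QuotientGroup.mk' _ x)
    refine ⟨d, hd, d⁻¹ * x, ?_, by group⟩
    exact QuotientGroup.eq.mp hdx
  have hDD : D ≤ ⁅D, D⁆ := by
    conv_lhs => rw [hD, commutator_def]
    rw [Subgroup.commutator_le]
    intro a _ b _
    obtain ⟨d, hd, z, hz, rfl⟩ := hsplit a
    obtain ⟨d', hd', z', hz', rfl⟩ := hsplit b
    rw [Cfsg.Agent.Schur.commutatorElement_mul_central hz hz']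
    exact Subgroup.commutator_mem_commutator hd hd'
  have hker : ∀ x : D, x ∈ σ.ker ↔ (x : fourRu) ∈ Subgroup.center fourRu := fun x => by
    rw [MonoidHom.mem_ker]
    exact QuotientGroup.eq_one_iff _
  have hst : Cfsg.IsStemExtension σ := by
    refine ⟨hsurj, fun x hx => ?_, fun x _ => ?_⟩
    · rw [Subgroup.mem_center_iff]
      exact fun y => Subtype.ext (Subgroup.mem_center_iff.mp ((hker x).mp hx) y)
    · have h : (x : fourRu) ∈ (commutator D).map D.subtype := by
        rw [Subgroup.map_subtype_commutator]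
        exact hDD x.2
      obtain ⟨y, hy, hyx⟩ := h
      rwa [← Subtype.ext hyx]
  refine ⟨D, inferInstance, inferInstance, σ, hst, ?_⟩
  obtain ⟨π, hπ⟩ := bound D σ hst
  refine ⟨(MulEquiv.ofBijective π ⟨?_, hπ⟩).symm⟩
  have hneg : negOne ∈ D :=
    Subgroup.commutator_mem_commutator (Subgroup.mem_top _) (Subgroup.mem_top _)
  let k : σ.ker := ⟨⟨negOne, hneg⟩, (hker _).mpr negOne_central⟩
  have hk : k ≠ 1 := fun h => negOne_ne (congrArg (fun z : σ.ker => ((z : D) : fourRu)) h)
  haveI : Finite σ.ker := inferInstance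
  haveI : Nontrivial σ.ker := ⟨⟨k, 1, hk⟩⟩
  refine (Nat.bijective_iff_surjective_and_card _).mpr ⟨hπ, ?_⟩ |>.1
  refine le_antisymm ?_ (Nat.card_le_card_of_surjective π hπ)
  rw [show Nat.card (Multiplicative (ZMod 2)) = 2 by simp]
  exact Finite.one_lt_card

end Cfsg.Agent.RuMult82
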