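import Cfsg.Agent.SylowTail.Bound

/-!
Certificate data for the Schur multiplier of the Rudvalis group: a polycyclic presentation of a
Sylow 2-subgroup, fusion pairs, equations and combinations.
-/

set_option autoImplicit false
set_option maxRecDepth 100000

namespace Cfsg.Agent.RuMult82

/-- Part 0 of relations. -/
def relsC0 : List (List ℕ × List ℕ) :=
  [([0, 0], [4]),
    ([1, 1], [5]),
    ([2, 2], []),
    ([3, 3], [8, 12, 13]),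
    ([4, 4], []),
    ([5, 5], [11]),
    ([6, 6], [12]),
    ([7, 7], [13]),
    ([8, 8], []),
    ([9, 9], []),
    ([10, 10], []),
    ([11, 11], []),
    ([12, 12], []),
    ([13, 13], []),
    ([1, 0], [0, 1, 3, 5, 7, 8, 10, 11, 13]),
    ([2, 0], [0, 2, 4, 10, 13])]

/-- Part 1 of relations. -/
def relsC1 : List (List ℕ × List ℕ) :=
  [([3, 0], [0, 3, 6, 7, 8, 11, 12, 13]),
    ([4, 0], [0, 4]),
    ([5, 0], [0, 5, 7]),
    ([6, 0], [0, 6, 8, 9, 11, 12, 13]),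
    ([7, 0], [0, 7, 9, 10, 12, 13]),
    ([8, 0], [0, 8, 10, 13]),
    ([9, 0], [0, 9, 10, 13]),
    ([10, 0], [0, 10]),
    ([11, 0], [0, 11, 12]),
    ([12, 0], [0, 12, 13]),
    ([13, 0], [0, 13]),
    ([2, 1], [1, 2, 3]),
    ([3, 1], [1, 3, 7, 8]),
    ([4, 1], [1, 4, 6]),
    ([5, 1], [1, 5]),
    ([6, 1], [1, 6, 9, 10])]

/-- Part 2 of relations. -/
def relsC2 : List (List ℕ × List ℕ) :=
  [([7, 1], [1, 7, 9]),
    ([8, 1], [1, 8, 10, 11, 12]),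
    ([9, 1], [1, 9, 12, 13]),
    ([10, 1], [1, 10, 11]),
    ([11, 1], [1, 11]),
    ([12, 1], [1, 12, 13]),
    ([13, 1], [1, 13]),
    ([3, 2], [2, 3, 8, 12, 13]),
    ([4, 2], [2, 4]),
    ([5, 2], [2, 5, 7]),
    ([6, 2], [2, 6, 8]),
    ([7, 2], [2, 7, 13]),
    ([8, 2], [2, 8]),
    ([9, 2], [2, 9, 10]),
    ([10, 2], [2, 10]),
    ([11, 2], [2, 11, 12])]

/-- Part 3 of relations. -/
def relsC3 : List (List ℕ × List ℕ) :=
  [([12, 2], [2, 12]),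
    ([13, 2], [2, 13]),
    ([4, 3], [3, 4, 8]),
    ([5, 3], [3, 5, 9, 10, 11]),
    ([6, 3], [3, 6]),
    ([7, 3], [3, 7, 10, 11]),
    ([8, 3], [3, 8]),
    ([9, 3], [3, 9, 11, 12, 13]),
    ([10, 3], [3, 10, 12, 13]),
    ([11, 3], [3, 11, 13]),
    ([12, 3], [3, 12]),
    ([13, 3], [3, 13]),
    ([5, 4], [4, 5, 9, 10, 12]),
    ([6, 4], [4, 6, 12]),
    ([7, 4], [4, 7, 10]),
    ([8, 4], [4, 8])]

/-- Part 4 of relations. -/
def relsC4 : List (List ℕ × List ℕ) :=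
  [([9, 4], [4, 9]),
    ([10, 4], [4, 10]),
    ([11, 4], [4, 11, 13]),
    ([12, 4], [4, 12]),
    ([13, 4], [4, 13]),
    ([6, 5], [5, 6, 11, 12, 13]),
    ([7, 5], [5, 7, 12, 13]),
    ([8, 5], [5, 8, 11, 13]),
    ([9, 5], [5, 9, 13]),
    ([10, 5], [5, 10]),
    ([11, 5], [5, 11]),
    ([12, 5], [5, 12]),
    ([13, 5], [5, 13]),
    ([7, 6], [6, 7, 11, 13]),
    ([8, 6], [6, 8]),
    ([9, 6], [6, 9])]

/-- Part 5 of relations. -/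
def relsC5 : List (List ℕ × List ℕ) :=
  [([10, 6], [6, 10, 13]),
    ([11, 6], [6, 11]),
    ([12, 6], [6, 12]),
    ([13, 6], [6, 13]),
    ([8, 7], [7, 8, 12]),
    ([9, 7], [7, 9]),
    ([10, 7], [7, 10]),
    ([11, 7], [7, 11]),
    ([12, 7], [7, 12]),
    ([13, 7], [7, 13]),
    ([9, 8], [8, 9, 13]),
    ([10, 8], [8, 10]),
    ([11, 8], [8, 11]),
    ([12, 8], [8, 12]),
    ([13, 8], [8, 13]),
    ([10, 9], [9, 10])]

/-- Part 6 of relations. -/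
def relsC6 : List (List ℕ × List ℕ) :=
  [([11, 9], [9, 11]),
    ([12, 9], [9, 12]),
    ([13, 9], [9, 13]),
    ([11, 10], [10, 11]),
    ([12, 10], [10, 12]),
    ([13, 10], [10, 13]),
    ([12, 11], [11, 12]),
    ([13, 11], [11, 13]),
    ([13, 12], [12, 13])]

/-- The relations. -/
def rels : List (List ℕ × List ℕ) :=
  relsC0 ++ relsC1 ++ relsC2 ++ relsC3 ++ relsC4 ++ relsC5 ++ relsC6

/-- Part 0 of words of the generators. -/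
def pcWordsC0 : List (List ℕ) :=
  [[14, 12, 14, 8, 11, 9, 10, 10, 4, 6, 5, 7, 5, 2, 1, 2, 0, 0, 0, 0],
    [15, 8, 10, 8, 11, 9, 7, 4, 7, 4, 4, 6, 0, 3, 1, 1, 1, 2],
    [12, 12, 14, 14, 9, 10, 10, 8, 11, 8, 11, 7, 7, 7, 4, 4, 1, 2, 2, 2, 2, 0, 3],
    [14, 13, 15, 10, 10, 8, 10, 5, 6, 4, 7, 0, 0, 2, 1, 3, 1, 1],
    [14, 12, 14, 9, 9, 9, 11, 8, 4, 6, 4, 4, 7, 5, 0, 3, 1, 3, 3, 3, 3, 0],
    [14, 13, 14, 8, 8, 11, 9, 11, 8, 7, 7, 5, 7, 0, 0, 0, 2, 0, 3, 1],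
    [12, 11, 9, 11, 8, 10, 10, 4, 6, 4, 6, 5, 5, 7, 4, 0, 2, 1, 2, 1, 2, 1],
    [14, 9, 11, 8, 5, 6, 6, 6, 4, 0, 3, 1, 2, 0, 0, 0, 0],
    [12, 15, 8, 10, 9, 11, 8, 11, 5, 7, 7, 4, 4, 1, 1, 2, 2, 0, 0, 0],
    [12, 15, 12, 10, 10, 8, 10, 8, 4, 6, 4, 7, 7, 7, 1, 2, 1, 1, 3, 0, 3],
    [12, 14, 12, 14, 9, 10, 10, 9, 9, 9, 5, 5, 7, 4, 6, 4, 1, 1, 2, 0, 2, 2, 1],
    [13, 9, 10, 8, 8, 8, 5, 7, 7, 7, 5, 5, 7, 1, 1, 2, 0, 2, 2, 1],
    [14, 13, 15, 10, 10, 9, 10, 10, 8, 10, 5, 6, 5, 7, 7, 2, 2, 1, 3, 3, 3, 3, 3],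
    [12, 15, 12, 9, 10, 9, 10, 5, 5, 6, 4, 6, 2, 0, 0, 0, 3, 3, 3]]

/-- The words of the generators. -/
def pcWords : List (List ℕ) :=
  pcWordsC0

/-- Part 0 of words of the fusing elements. -/
def fusWordsC0 : List (List ℕ) :=
  [[12, 12, 14, 14, 10, 10, 9, 10, 10, 8, 10, 7, 7, 4, 4, 4, 6, 2, 0, 0, 3, 1, 2, 0],
    [14, 13, 15, 8, 10, 9, 11, 8, 6, 6, 4, 6, 5, 1, 3, 1, 1, 3, 3, 1, 1],
    [14, 12, 15, 8, 10, 8, 11, 8, 11, 8, 6, 6, 4, 7, 7, 4, 2, 1, 2, 2, 2, 1, 2],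
    [13, 8, 10, 9, 9, 9, 11, 4, 6, 4, 6, 6, 0, 2, 2, 0, 3, 1, 2]]

/-- The words of the fusing elements. -/
def fusWords : List (List ℕ) :=
  fusWordsC0

/-- Part 0 of fusion pairs. -/
def pairsC0 : List (ℕ × List ℕ × List ℕ) :=
  [(0, [0], [0, 6, 8, 9, 10, 12, 13]),
    (0, [2], [2, 4, 7, 9, 10]),
    (0, [4], [4, 8, 9, 11]),
    (0, [5], [4, 5, 7, 8, 9, 10, 11, 13]),
    (0, [6], [0, 2, 9, 10, 11]),
    (0, [7], [7, 9, 10, 12]),
    (0, [8], [4, 9, 10]),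
    (0, [9], [9, 11, 12, 13]),
    (0, [10], [10, 12, 13]),
    (0, [11], [9, 12, 13]),
    (0, [12], [10]),
    (0, [13], [13]),
    (1, [0, 1, 2, 3, 6], [0, 2, 4, 8, 11, 12]),
    (1, [1, 4, 6, 7, 8], [5, 6, 9, 10, 11, 13]),
    (1, [5, 7, 9, 11], [4, 5, 6, 9, 12, 13]),
    (1, [6, 7, 9, 10, 11], [0, 2, 5, 6, 8, 11, 12])]

/-- Part 1 of fusion pairs. -/
def pairsC1 : List (ℕ × List ℕ × List ℕ) :=
  [(1, [11, 12], [0, 2, 4, 8, 10, 13]),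
    (1, [13], [0, 2, 4, 8, 9]),
    (2, [0, 2], [4, 5, 6, 7, 8, 10, 11]),
    (2, [1], [0, 1, 2, 3, 4, 6, 7, 8, 10, 11]),
    (2, [3], [1, 3, 4, 5, 7, 9, 10, 11, 12, 13]),
    (2, [4], [0, 2, 8, 9, 11]),
    (2, [5], [6, 10, 13]),
    (2, [6], [5, 9, 11, 12]),
    (2, [7], [7, 9, 10, 12]),
    (2, [8], [5, 6, 7, 8, 9, 10, 11, 12]),
    (2, [9], [10, 13]),
    (2, [10], [9]),
    (2, [11], [12, 13]),
    (2, [12], [11, 13]),
    (2, [13], [13]),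
    (3, [0, 2, 4, 6], [0, 1, 2, 3, 5, 7, 9, 10, 11, 12])]

/-- Part 2 of fusion pairs. -/
def pairsC2 : List (ℕ × List ℕ × List ℕ) :=
  [(3, [4, 5], [0, 1, 2, 3, 5, 6, 9, 10, 11, 13]),
    (3, [5, 8], [3, 4, 6, 9, 10, 12, 13]),
    (3, [7], [0, 1, 2, 3, 7, 9, 10, 11, 12]),
    (3, [9], [5, 6, 10]),
    (3, [10], [0, 1, 2, 3, 6, 11]),
    (3, [11], [5, 6, 10, 13]),
    (3, [12], [0, 1, 2, 3, 6, 11, 12, 13]),
    (3, [13], [11, 12, 13])]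

/-- The fusion pairs. -/
def pairs : List (ℕ × List ℕ × List ℕ) :=
  pairsC0 ++ pairsC1 ++ pairsC2

/-- Part 0 of equations. -/
def eqnsC0 : List SylowTail.Eqn :=
  [.cons [0, 0, 0],
    .cons [1, 0, 0],
    .cons [1, 1, 0],
    .cons [1, 1, 1],
    .cons [2, 0, 0],
    .cons [2, 1, 0],
    .cons [2, 1, 1],
    .cons [2, 2, 0],
    .cons [2, 2, 1],
    .cons [3, 0, 0],
    .cons [3, 1, 0],
    .cons [3, 1, 1],
    .cons [3, 2, 0],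
    .cons [3, 2, 1],
    .cons [3, 2, 2],
    .cons [3, 3, 0]]

/-- Part 1 of equations. -/
def eqnsC1 : List SylowTail.Eqn :=
  [.cons [3, 3, 1],
    .cons [3, 3, 2],
    .cons [3, 3, 3],
    .cons [4, 1, 0],
    .cons [4, 1, 1],
    .cons [4, 2, 0],
    .cons [4, 2, 1],
    .cons [4, 3, 0],
    .cons [4, 3, 1],
    .cons [4, 3, 2],
    .cons [4, 3, 3],
    .cons [4, 4, 1],
    .cons [4, 4, 3],
    .cons [5, 0, 0],
    .cons [5, 1, 0],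
    .cons [5, 2, 0]]

/-- Part 2 of equations. -/
def eqnsC2 : List SylowTail.Eqn :=
  [.cons [5, 2, 1],
    .cons [5, 2, 2],
    .cons [5, 3, 0],
    .cons [5, 3, 1],
    .cons [5, 3, 2],
    .cons [5, 3, 3],
    .cons [5, 4, 0],
    .cons [5, 4, 1],
    .cons [5, 4, 2],
    .cons [5, 4, 3],
    .cons [5, 4, 4],
    .cons [5, 5, 0],
    .cons [5, 5, 1],
    .cons [5, 5, 2],
    .cons [5, 5, 3],
    .cons [5, 5, 4]]

/-- Part 3 of equations. -/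
def eqnsC3 : List SylowTail.Eqn :=
  [.cons [5, 5, 5],
    .cons [6, 0, 0],
    .cons [6, 1, 0],
    .cons [6, 1, 1],
    .cons [6, 2, 0],
    .cons [6, 2, 1],
    .cons [6, 2, 2],
    .cons [6, 3, 0],
    .cons [6, 3, 1],
    .cons [6, 3, 2],
    .cons [6, 3, 3],
    .cons [6, 4, 0],
    .cons [6, 4, 1],
    .cons [6, 4, 2],
    .cons [6, 4, 3],
    .cons [6, 4, 4]]

/-- Part 4 of equations. -/
def eqnsC4 : List SylowTail.Eqn :=
  [.cons [6, 5, 0],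
    .cons [6, 5, 1],
    .cons [6, 5, 2],
    .cons [6, 5, 3],
    .cons [6, 5, 4],
    .cons [6, 5, 5],
    .cons [6, 6, 0],
    .cons [6, 6, 1],
    .cons [6, 6, 2],
    .cons [6, 6, 4],
    .cons [6, 6, 5],
    .cons [6, 6, 6],
    .cons [7, 0, 0],
    .cons [7, 1, 0],
    .cons [7, 1, 1],
    .cons [7, 2, 0]]

/-- Part 5 of equations. -/
def eqnsC5 : List SylowTail.Eqn :=
  [.cons [7, 2, 1],
    .cons [7, 2, 2],
    .cons [7, 3, 0],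
    .cons [7, 3, 1],
    .cons [7, 3, 2],
    .cons [7, 3, 3],
    .cons [7, 4, 0],
    .cons [7, 4, 1],
    .cons [7, 4, 2],
    .cons [7, 4, 3],
    .cons [7, 4, 4],
    .cons [7, 5, 0],
    .cons [7, 5, 1],
    .fus [3, 0] [0, 3, 5],
    .fus [4, 0] [0, 4, 6, 7, 9, 10, 11],
    .fus [5, 0] [0, 5, 7, 8, 10, 11]]

/-- Part 6 of equations. -/
def eqnsC6 : List SylowTail.Eqn :=
  [.fus [6, 0] [0, 6, 8, 11],
    .fus [9, 0] [0, 9, 10],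
    .fus [3, 1] [1, 3, 5],
    .fus [4, 1] [1, 4, 6],
    .fus [4, 3] [3, 4, 9, 10, 11],
    .fus [14, 12] [12, 14],
    .fus [23, 18] [18, 23, 26, 27, 28, 30],
    .fus [24, 18] [18, 24, 26, 29],
    .fus [25, 18] [18, 25, 27, 30],
    .fus [26, 18] [18, 26, 30],
    .fus [23, 19] [19, 23, 26, 27],
    .fus [25, 19] [19, 25, 27, 28, 29],
    .fus [32, 31] [31, 32, 35, 36, 37, 38],
    .fus [35, 31] [31, 35, 39],
    .fus [33, 32] [32, 33, 35, 36, 37, 38, 39]]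

/-- The equations. -/
def eqns : List SylowTail.Eqn :=
  eqnsC0 ++ eqnsC1 ++ eqnsC2 ++ eqnsC3 ++ eqnsC4 ++ eqnsC5 ++ eqnsC6

/-- Part 0 of vectors of the free part. -/
def wvC0 : List (List ℕ) :=
  [[1, 0, 0, 0, 0, 0, 0, 0, 0, 0, 0, 0, 0, 0, 0, 0, 0, 0, 0, 0, 0, 0, 0, 0, 0, 0, 0, 0, 0, 0, 0, 0, 0, 0, 0, 0, 0, 0, 0, 0, 0, 0, 0, 0, 0, 0, 0, 0, 0, 0, 0, 0, 0, 0, 0, 0, 0, 0, 0, 0, 0, 0, 0, 0, 0, 0, 0, 0, 0, 0, 0, 0, 0, 0, 0, 0, 0, 0, 0, 0, 0, 0, 0, 0, 0, 0, 0, 0, 0, 0, 0, 0, 0, 0, 0, 0, 0, 0, 0, 0, 0, 0, 0, 0, 0],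
    [0, 1, 0, 0, 0, 0, 0, 0, 0, 0, 0, 0, 0, 0, 0, 0, 0, 0, 0, 0, 0, 0, 0, 0, 0, 0, 0, 0, 0, 0, 0, 0, 0, 0, 0, 0, 0, 0, 0, 0, 0, 0, 0, 0, 0, 0, 0, 0, 0, 0, 0, 0, 0, 0, 0, 0, 0, 0, 0, 0, 0, 0, 0, 0, 0, 0, 0, 0, 0, 0, 0, 0, 0, 0, 0, 0, 0, 0, 0, 0, 0, 0, 0, 0, 0, 0, 0, 0, 0, 0, 0, 0, 0, 0, 0, 0, 0, 0, 0, 0, 0, 0, 0, 0, 0],
    [0, 0, 1, 0, 0, 0, 0, 0, 0, 0, 0, 0, 0, 0, 0, 0, 0, 0, 0, 0, 0, 0, 0, 0, 0, 0, 0, 0, 0, 0, 0, 0, 0, 0, 0, 0, 0, 0, 0, 0, 0, 0, 0, 0, 0, 0, 0, 0, 0, 0, 0, 0, 0, 0, 0, 0, 0, 0, 0, 0, 0, 0, 0, 0, 0, 0, 0, 0, 0, 0, 0, 0, 0, 0, 0, 0, 0, 0, 0, 0, 0, 0, 0, 0, 0, 0, 0, 0, 0, 0, 0, 0, 0, 0, 0, 0, 0, 0, 0, 0, 0, 0, 0, 0, 0],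
    [0, 0, 0, 0, 0, 0, 0, 0, 0, 0, 0, 0, 0, 0, 1, 0, 0, 0, 0, 0, 0, 0, 0, 0, 0, 0, 0, 0, 0, 0, 0, 0, 0, 0, 0, 0, 0, 0, 0, 0, 0, 0, 0, 0, 0, 0, 0, 0, 0, 0, 0, 0, 0, 0, 0, 0, 0, 0, 0, 0, 0, 0, 0, 0, 0, 0, 0, 0, 0, 0, 0, 0, 0, 0, 0, 0, 0, 0, 0, 0, 0, 0, 0, 0, 0, 0, 0, 0, 0, 0, 0, 0, 0, 0, 0, 0, 0, 0, 0, 0, 0, 0, 0, 0, 0]]

/-- Part 1 of vectors of the free part. -/
def wvC1 : List (List ℕ) :=
  [[0, 0, 0, 0, 0, 0, 0, 0, 0, 0, 0, 0, 0, 0, 0, 1, 0, 0, 0, 0, 0, 0, 0, 0, 0, 0, 0, 0, 0, 0, 0, 0, 0, 0, 0, 0, 0, 0, 0, 0, 0, 0, 0, 0, 0, 0, 0, 0, 0, 0, 0, 0, 0, 0, 0, 0, 0, 0, 0, 0, 0, 0, 0, 0, 0, 0, 0, 0, 0, 0, 0, 0, 0, 0, 0, 0, 0, 0, 0, 0, 0, 0, 0, 0, 0, 0, 0, 0, 0, 0, 0, 0, 0, 0, 0, 0, 0, 0, 0, 0, 0, 0, 0, 0, 0],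
    [0, 0, 0, 0, 0, 0, 0, 0, 0, 0, 0, 0, 0, 0, 3, 0, 0, 0, 0, 0, 0, 0, 0, 0, 0, 0, 0, 1, 0, 0, 0, 0, 0, 0, 0, 0, 0, 0, 0, 0, 0, 0, 0, 0, 0, 0, 0, 0, 0, 0, 0, 0, 0, 0, 0, 0, 0, 0, 0, 0, 0, 0, 0, 0, 0, 0, 0, 0, 0, 0, 0, 0, 0, 0, 0, 0, 0, 0, 0, 0, 0, 0, 0, 0, 0, 0, 0, 0, 0, 0, 0, 0, 0, 0, 0, 0, 0, 0, 0, 0, 0, 0, 0, 0, 0],
    [0, 0, 0, 0, 0, 0, 0, 0, 0, 0, 0, 0, 0, 0, 0, 0, 1, 0, 0, 0, 0, 0, 0, 0, 0, 0, 0, 0, 0, 0, 0, 0, 0, 0, 0, 0, 0, 0, 0, 0, 0, 0, 0, 0, 0, 0, 0, 0, 0, 0, 0, 0, 0, 0, 0, 0, 0, 0, 0, 0, 0, 0, 0, 0, 0, 0, 0, 0, 0, 0, 0, 0, 0, 0, 0, 0, 0, 0, 0, 0, 0, 0, 0, 0, 0, 0, 0, 0, 0, 0, 0, 0, 0, 0, 0, 0, 0, 0, 0, 0, 0, 0, 0, 0, 0],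
    [0, 0, 0, 0, 0, 0, 0, 0, 0, 0, 0, 0, 0, 0, 0, 0, 0, 0, 1, 0, 0, 0, 0, 0, 0, 0, 0, 0, 0, 0, 0, 0, 0, 0, 0, 0, 0, 0, 0, 0, 0, 0, 0, 0, 0, 0, 0, 0, 0, 0, 0, 0, 0, 0, 0, 0, 0, 0, 0, 0, 0, 0, 0, 0, 0, 0, 0, 0, 0, 0, 0, 0, 0, 0, 0, 0, 0, 0, 0, 0, 0, 0, 0, 0, 0, 0, 0, 0, 0, 0, 0, 0, 0, 0, 0, 0, 0, 0, 0, 0, 0, 0, 0, 0, 0]]

/-- Part 2 of vectors of the free part. -/
def wvC2 : List (List ℕ) :=
  [[0, 0, 0, 0, 0, 0, 0, 0, 0, 0, 0, 0, 0, 0, 0, 0, 0, 0, 0, 1, 0, 0, 0, 0, 0, 0, 0, 0, 0, 0, 0, 0, 0, 0, 0, 0, 0, 0, 0, 0, 0, 0, 0, 0, 0, 0, 0, 0, 0, 0, 0, 0, 0, 0, 0, 0, 0, 0, 0, 0, 0, 0, 0, 0, 0, 0, 0, 0, 0, 0, 0, 0, 0, 0, 0, 0, 0, 0, 0, 0, 0, 0, 0, 0, 0, 0, 0, 0, 0, 0, 0, 0, 0, 0, 0, 0, 0, 0, 0, 0, 0, 0, 0, 0, 0],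
    [0, 0, 0, 0, 0, 0, 0, 0, 0, 0, 0, 0, 0, 0, 0, 0, 0, 0, 0, 0, 1, 0, 0, 0, 0, 0, 0, 0, 0, 0, 0, 0, 0, 0, 0, 0, 0, 0, 0, 0, 0, 0, 0, 0, 0, 0, 0, 0, 0, 0, 0, 0, 0, 0, 0, 0, 0, 0, 0, 0, 0, 0, 0, 0, 0, 0, 0, 0, 0, 0, 0, 0, 0, 0, 0, 0, 0, 0, 0, 0, 0, 0, 0, 0, 0, 0, 0, 0, 0, 0, 0, 0, 0, 0, 0, 0, 0, 0, 0, 0, 0, 0, 0, 0, 0],
    [0, 0, 0, 0, 0, 0, 0, 0, 0, 0, 0, 0, 0, 0, 0, 0, 0, 0, 0, 0, 0, 1, 0, 0, 0, 0, 0, 0, 0, 0, 0, 0, 0, 0, 0, 0, 0, 0, 0, 0, 0, 0, 0, 0, 0, 0, 0, 0, 0, 0, 0, 0, 0, 0, 0, 0, 0, 0, 0, 0, 0, 0, 0, 0, 0, 0, 0, 0, 0, 0, 0, 0, 0, 0, 0, 0, 0, 0, 0, 0, 0, 0, 0, 0, 0, 0, 0, 0, 0, 0, 0, 0, 0, 0, 0, 0, 0, 0, 0, 0, 0, 0, 0, 0, 0],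
    [0, 0, 0, 0, 0, 0, 0, 0, 0, 0, 0, 0, 0, 0, 0, 0, 0, 0, 0, 0, 0, 0, 0, 0, 0, 0, 0, 0, 0, 0, 0, 0, 0, 0, 0, 1, 0, 0, 0, 0, 0, 0, 0, 0, 0, 0, 0, 0, 0, 0, 0, 0, 0, 0, 0, 0, 0, 0, 0, 0, 0, 0, 0, 0, 0, 0, 0, 0, 0, 0, 0, 0, 0, 0, 0, 0, 0, 0, 0, 0, 0, 0, 0, 0, 0, 0, 0, 0, 0, 0, 0, 0, 0, 0, 0, 0, 0, 0, 0, 0, 0, 0, 0, 0, 0]]

/-- Part 3 of vectors of the free part. -/
def wvC3 : List (List ℕ) :=
  [[0, 0, 0, 0, 0, 0, 0, 0, 0, 0, 0, 0, 0, 0, 0, 0, 0, 0, 0, 0, 0, 0, 0, 0, 1, 0, 0, 0, 0, 0, 0, 0, 0, 0, 0, 0, 0, 0, 0, 0, 0, 0, 0, 0, 0, 0, 0, 0, 0, 0, 0, 0, 0, 0, 0, 0, 0, 0, 0, 0, 0, 0, 0, 0, 0, 0, 0, 0, 0, 0, 0, 0, 0, 0, 0, 0, 0, 0, 0, 0, 0, 0, 0, 0, 0, 0, 0, 0, 0, 0, 0, 0, 0, 0, 0, 0, 0, 0, 0, 0, 0, 0, 0, 0, 0],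
    [0, 0, 0, 0, 0, 0, 0, 0, 0, 0, 0, 0, 0, 0, 0, 0, 0, 0, 0, 0, 0, 0, 0, 0, 0, 1, 0, 0, 0, 0, 0, 0, 0, 0, 0, 0, 0, 0, 0, 0, 0, 0, 0, 0, 0, 0, 0, 0, 0, 0, 0, 0, 0, 0, 0, 0, 0, 0, 0, 0, 0, 0, 0, 0, 0, 0, 0, 0, 0, 0, 0, 0, 0, 0, 0, 0, 0, 0, 0, 0, 0, 0, 0, 0, 0, 0, 0, 0, 0, 0, 0, 0, 0, 0, 0, 0, 0, 0, 0, 0, 0, 0, 0, 0, 0]]

/-- The vectors of the free part. -/
def wv : List (List ℕ) :=
  wvC0 ++ wvC1 ++ wvC2 ++ wvC3

/-- Part 0 of coefficient matrix. -/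
def umatC0 : List (List ℤ) :=
  [[1, 0, 0, 0, 0, 0, 0, 0, 0, 0, 0, 0, 0, 0],
    [0, 1, 0, 0, 0, 0, 0, 0, 0, 0, 0, 0, 0, 0],
    [0, 0, 1, 0, 0, 0, 0, 0, 0, 0, 0, 0, 0, 0],
    [0, 0, 0, (-2), 0, (-2), 0, 0, 1, (-1), 1, (-1), 1, 0],
    [0, 0, 0, 0, (-2), 0, 0, 0, 0, 0, 2, 0, 0, 0],
    [0, 0, 0, 0, 0, 2, 0, 2, 2, (-2), 4, 1, 0, (-2)],
    [0, 0, 0, 0, 0, 0, (-2), 2, 2, (-2), 2, 0, 3, 0],
    [0, 0, 0, 0, 0, 0, 0, (-2), 0, 0, 0, 0, 0, 1],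
    [0, 0, 0, 0, 0, 0, 0, 0, (-2), 2, (-2), 2, 0, 2],
    [0, 0, 0, 0, 0, 0, 0, 0, 0, (-2), 2, 0, 2, 0],
    [0, 0, 0, 0, 0, 0, 0, 0, 0, 0, (-2), 0, 0, 2],
    [0, 0, 0, 0, 0, 0, 0, 0, 0, 0, 0, (-2), 0, 0],
    [0, 0, 0, 0, 0, 0, 0, 0, 0, 0, 0, 0, (-2), 0],
    [0, 0, 0, 0, 0, 0, 0, 0, 0, 0, 0, 0, 0, (-2)],
    [0, 0, 0, 1, 0, 0, 0, 0, 0, 0, 0, 0, 0, 0],
    [0, 0, 0, 0, 1, 0, 0, 0, 0, 0, 0, 0, 0, 0]]

/-- Part 1 of coefficient matrix. -/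
def umatC1 : List (List ℤ) :=
  [[0, 0, 0, 0, 0, 0, 1, 0, 0, 0, 0, 0, 0, 0],
    [0, 0, 0, 0, 0, 0, 0, 0, 0, 0, 0, 0, 0, 0],
    [0, 0, 0, 0, 0, 0, 0, 1, 0, 0, 0, 0, 0, 0],
    [0, 0, 0, 0, 0, 0, 0, 0, 1, 0, 0, 0, 0, 0],
    [0, 0, 0, 0, 0, 0, 0, 0, 0, 1, 0, 0, 0, 0],
    [0, 0, 0, 0, 0, 0, 0, 0, 0, 0, 1, 0, 0, 0],
    [0, 0, 0, 0, 0, 0, 0, 0, 0, 0, 1, 0, 0, 0],
    [0, 0, 0, 0, 0, 0, 0, 0, 0, 0, 0, 0, 0, 0],
    [0, 0, 0, 0, 0, 0, 0, 0, 0, 0, 0, 0, 1, 0],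
    [0, 0, 0, 0, 0, 0, 0, 0, 0, 0, 0, 0, 0, 1],
    [0, 0, 0, 0, 0, 0, 0, 0, 0, 0, 0, 0, 0, 0],
    [0, 0, 0, 1, 0, 1, 0, 0, 0, 0, 0, 0, 0, 0],
    [0, 0, 0, 0, 0, 0, 0, 1, 1, (-1), 1, (-1), 0, (-1)],
    [0, 0, 0, 0, 0, 0, 1, (-1), (-1), 1, (-1), 0, (-1), 0],
    [0, 0, 0, 0, 0, 0, 0, 0, 0, 0, 0, 0, 0, 0],
    [0, 0, 0, 0, 0, 0, 0, 0, 0, 1, 0, 0, (-1), (-1)]]

/-- Part 2 of coefficient matrix. -/
def umatC2 : List (List ℤ) :=
  [[0, 0, 0, 0, 0, 0, 0, 0, 0, 1, (-1), 0, (-1), 0],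
    [0, 0, 0, 0, 0, 0, 0, 0, 0, 0, 1, 1, 1, (-1)],
    [0, 0, 0, 0, 0, 0, 0, 0, 0, 0, 0, 0, 1, 1],
    [0, 0, 0, 0, 0, 0, 0, 0, 0, 0, 0, 1, 0, 0],
    [0, 0, 0, 0, 0, 0, 0, 0, 0, 0, 0, 0, 0, 0],
    [0, 0, 0, 0, 0, 0, 0, 0, 0, 0, 0, 0, 0, 1],
    [0, 0, 0, 0, 0, 0, 0, 0, 0, 0, 0, 0, 0, 0],
    [0, 0, 0, 0, 0, 0, 0, 0, 1, (-1), 1, (-1), 1, 0],
    [0, 0, 0, 0, 0, 0, 0, 0, 0, 0, 0, 0, 0, 0],
    [0, 0, 0, 0, 0, 0, 0, 1, 0, 0, 0, 0, 0, 0],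
    [0, 0, 0, 0, 0, 0, 0, 0, 1, (-1), 1, (-1), 0, (-1)],
    [0, 0, 0, 0, 0, 0, 0, 0, 0, 0, 0, 0, 0, 1],
    [0, 0, 0, 0, 0, 0, 0, 0, 0, 0, 0, 0, 0, 0],
    [0, 0, 0, 0, 0, 0, 0, 0, 0, 0, 1, 0, 0, (-1)],
    [0, 0, 0, 0, 0, 0, 0, 0, 0, 0, 0, 0, 0, 0],
    [0, 0, 0, 0, 0, 0, 0, 0, 0, 0, 0, 0, 1, 0]]

/-- Part 3 of coefficient matrix. -/
def umatC3 : List (List ℤ) :=
  [[0, 0, 0, 0, 0, 0, 0, 0, 0, 0, 0, 0, 0, 0],
    [0, 0, 0, 0, 0, 0, 0, 0, 0, 0, 0, 0, 0, 0],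
    [0, 0, 0, 0, 0, 0, 0, 0, 1, (-1), 1, (-1), 0, (-1)],
    [0, 0, 0, 0, 0, 0, 0, 0, 0, 1, 0, 1, (-1), (-1)],
    [0, 0, 0, 0, 0, 0, 0, 0, 0, 0, 0, 0, 0, 0],
    [0, 0, 0, 0, 0, 0, 0, 0, 0, 0, 1, 1, 0, (-1)],
    [0, 0, 0, 0, 0, 0, 0, 0, 0, 0, 0, 0, 0, 0],
    [0, 0, 0, 0, 0, 0, 0, 0, 0, 0, 0, 1, 1, 1],
    [0, 0, 0, 0, 0, 0, 0, 0, 0, 0, 0, 0, 1, 1],
    [0, 0, 0, 0, 0, 0, 0, 0, 0, 0, 0, 0, 0, 1],
    [0, 0, 0, 0, 0, 0, 0, 0, 0, 0, 0, 0, 0, 0],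
    [0, 0, 0, 0, 0, 0, 0, 0, 0, 0, 0, 0, 0, 0],
    [0, 0, 0, 0, 0, 0, 0, 0, 0, 1, 0, 0, 0, (-1)],
    [0, 0, 0, 0, 0, 0, 0, 0, 0, 0, 0, 0, 1, 0],
    [0, 0, 0, 0, 0, 0, 0, 0, 0, 0, 1, 0, 0, (-1)],
    [0, 0, 0, 0, 0, 0, 0, 0, 0, 0, 0, 0, 0, 0]]

/-- Part 4 of coefficient matrix. -/
def umatC4 : List (List ℤ) :=
  [[0, 0, 0, 0, 0, 0, 0, 0, 0, 0, 0, 0, 0, 0],
    [0, 0, 0, 0, 0, 0, 0, 0, 0, 0, 0, 0, 0, 0],
    [0, 0, 0, 0, 0, 0, 0, 0, 0, 0, 0, 0, 0, 1],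
    [0, 0, 0, 0, 0, 0, 0, 0, 0, 0, 0, 0, 0, 0],
    [0, 0, 0, 0, 0, 0, 0, 0, 0, 0, 0, 0, 0, 0],
    [0, 0, 0, 0, 0, 0, 0, 0, 0, 0, 0, 1, 1, 1],
    [0, 0, 0, 0, 0, 0, 0, 0, 0, 0, 0, 0, 1, 1],
    [0, 0, 0, 0, 0, 0, 0, 0, 0, 0, 0, 1, 0, 1],
    [0, 0, 0, 0, 0, 0, 0, 0, 0, 0, 0, 0, 0, 1],
    [0, 0, 0, 0, 0, 0, 0, 0, 0, 0, 0, 0, 0, 0],
    [0, 0, 0, 0, 0, 0, 0, 0, 0, 0, 0, 0, 0, 0],
    [0, 0, 0, 0, 0, 0, 0, 0, 0, 0, 0, 0, 0, 0],
    [0, 0, 0, 0, 0, 0, 0, 0, 0, 0, 0, 0, 0, 0],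
    [0, 0, 0, 0, 0, 0, 0, 0, 0, 0, 0, 1, 0, 1],
    [0, 0, 0, 0, 0, 0, 0, 0, 0, 0, 0, 0, 0, 0],
    [0, 0, 0, 0, 0, 0, 0, 0, 0, 0, 0, 0, 0, 0]]

/-- Part 5 of coefficient matrix. -/
def umatC5 : List (List ℤ) :=
  [[0, 0, 0, 0, 0, 0, 0, 0, 0, 0, 0, 0, 0, 1],
    [0, 0, 0, 0, 0, 0, 0, 0, 0, 0, 0, 0, 0, 0],
    [0, 0, 0, 0, 0, 0, 0, 0, 0, 0, 0, 0, 0, 0],
    [0, 0, 0, 0, 0, 0, 0, 0, 0, 0, 0, 0, 0, 0],
    [0, 0, 0, 0, 0, 0, 0, 0, 0, 0, 0, 0, 1, 0],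
    [0, 0, 0, 0, 0, 0, 0, 0, 0, 0, 0, 0, 0, 0],
    [0, 0, 0, 0, 0, 0, 0, 0, 0, 0, 0, 0, 0, 0],
    [0, 0, 0, 0, 0, 0, 0, 0, 0, 0, 0, 0, 0, 0],
    [0, 0, 0, 0, 0, 0, 0, 0, 0, 0, 0, 0, 0, 0],
    [0, 0, 0, 0, 0, 0, 0, 0, 0, 0, 0, 0, 0, 0],
    [0, 0, 0, 0, 0, 0, 0, 0, 0, 0, 0, 0, 0, 1],
    [0, 0, 0, 0, 0, 0, 0, 0, 0, 0, 0, 0, 0, 0],
    [0, 0, 0, 0, 0, 0, 0, 0, 0, 0, 0, 0, 0, 0],
    [0, 0, 0, 0, 0, 0, 0, 0, 0, 0, 0, 0, 0, 0],
    [0, 0, 0, 0, 0, 0, 0, 0, 0, 0, 0, 0, 0, 0],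
    [0, 0, 0, 0, 0, 0, 0, 0, 0, 0, 0, 0, 0, 0]]

/-- Part 6 of coefficient matrix. -/
def umatC6 : List (List ℤ) :=
  [[0, 0, 0, 0, 0, 0, 0, 0, 0, 0, 0, 0, 0, 0],
    [0, 0, 0, 0, 0, 0, 0, 0, 0, 0, 0, 0, 0, 0],
    [0, 0, 0, 0, 0, 0, 0, 0, 0, 0, 0, 0, 0, 0],
    [0, 0, 0, 0, 0, 0, 0, 0, 0, 0, 0, 0, 0, 0],
    [0, 0, 0, 0, 0, 0, 0, 0, 0, 0, 0, 0, 0, 0],
    [0, 0, 0, 0, 0, 0, 0, 0, 0, 0, 0, 0, 0, 0],
    [0, 0, 0, 0, 0, 0, 0, 0, 0, 0, 0, 0, 0, 0],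
    [0, 0, 0, 0, 0, 0, 0, 0, 0, 0, 0, 0, 0, 0],
    [0, 0, 0, 0, 0, 0, 0, 0, 0, 0, 0, 0, 0, 0]]

/-- The coefficient matrix. -/
def umat : List (List ℤ) :=
  umatC0 ++ umatC1 ++ umatC2 ++ umatC3 ++ umatC4 ++ umatC5 ++ umatC6

/-- Part 0 of inverting matrix. -/
def jmatC0 : List (List ℤ) :=
  [[1, 0, 0, 0, (-1), 0, 0, 0, 0, 0, 1, 0, 0, 0],
    [0, 1, 0, 0, 0, 1, 0, 1, 1, (-1), 2, 0, 0, (-1)],
    [0, 0, 1, 0, 0, 0, 0, 0, 0, 0, 0, 0, 0, 0],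
    [0, 0, 0, (-2), 0, (-2), 0, 0, 0, 0, 0, 0, 0, 0],
    [0, 0, 0, 0, (-2), 0, 0, 0, 0, 0, 2, 0, 0, 0],
    [0, 0, 0, 0, 0, 2, 0, 2, 2, (-2), 4, 0, 0, (-2)],
    [0, 0, 0, 0, 0, 0, (-2), 2, 2, (-2), 2, 0, 2, 0],
    [0, 0, 0, 0, 0, 0, 0, (-2), 0, 0, 0, 0, 0, 0],
    [0, 0, 0, 0, 0, 0, 0, 0, (-2), 2, (-2), 2, 0, 2],
    [0, 0, 0, 0, 0, 0, 0, 0, 0, (-2), 2, 0, 2, 0],
    [0, 0, 0, 0, 0, 0, 0, 0, 0, 0, (-2), 0, 0, 2],
    [0, 0, 0, 0, 0, 0, 0, 0, 0, 0, 0, (-2), 0, 0],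
    [0, 0, 0, 0, 0, 0, 0, 0, 0, 0, 0, 0, (-2), 0],
    [0, 0, 0, 0, 0, 0, 0, 0, 0, 0, 0, 0, 0, (-2)]]

/-- The inverting matrix. -/
def jmat : List (List ℤ) :=
  jmatC0

/-- Part 0 of combinations. -/
def zcombC0 : List (List (ℕ × ℕ)) :=
  [[],
    [],
    [],
    [(0, 2), (1, 3), (2, 3), (4, 1), (5, 2), (6, 2), (7, 2), (8, 1), (11, 3), (12, 3), (14, 3), (15, 3), (18, 2), (19, 1), (20, 3), (22, 3), (23, 1), (24, 3), (25, 3), (26, 2), (27, 3), (28, 2), (30, 3), (31, 3), (32, 2), (33, 1), (35, 1), (37, 1), (38, 2), (39, 3), (40, 1), (42, 1), (43, 3), (45, 1), (47, 3), (48, 1), (49, 2), (51, 1), (52, 3), (55, 3), (56, 1), (57, 1), (58, 2), (59, 3), (60, 2), (61, 3), (62, 1), (63, 1), (64, 2), (65, 3), (67, 2), (68, 1), (69, 1), (70, 1), (71, 3), (73, 3), (76, 2), (77, 2), (78, 3), (79, 1), (80, 1), (83, 1), (84, 3), (85, 3), (86, 2), (87, 3), (88, 3), (89, 3), (90,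 2), (92, 2), (93, 3), (94, 1), (95, 3), (96, 1), (97, 1), (98, 1), (99, 3), (100, 3), (101, 3), (102, 3), (103, 3), (104, 2), (105, 3), (106, 2), (107, 1), (108, 3), (109, 3), (110, 1)],
    [(0, 2), (1, 2), (2, 2), (4, 1), (9, 2), (11, 1), (12, 2), (13, 2), (14, 1), (15, 3), (17, 1), (18, 1), (20, 2), (22, 2), (23, 2), (24, 3), (27, 3), (28, 1), (29, 2), (30, 2), (31, 3), (32, 1), (33, 2), (34, 2), (35, 3), (36, 3), (38, 1), (39, 3), (41, 2), (42, 3), (43, 3), (44, 2), (45, 1), (47, 1), (49, 3), (50, 1), (51, 1), (52, 1), (53, 3), (54, 2), (55, 1), (56, 1), (58, 1), (59, 3), (61, 3), (62, 1), (63, 3), (64, 2), (65, 2), (66, 2), (67, 3), (68, 1), (70, 2), (71, 3), (74, 2), (75, 1), (76, 1), (77, 3), (78, 3), (82, 3), (83, 2), (84, 2), (85, 2), (86, 2), (88, 1), (89, 1), (91, 3), (93, 1), (98, 3), (102, 2), (103, 2), (105, 2), (107, 2)],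
    [(0, 3), (1, 2), (2, 1), (3, 1), (4, 3), (6, 1), (7, 3), (8, 2), (9, 2), (11, 1), (12, 1), (13, 1), (14, 2), (16, 2), (18, 1), (19, 1), (20, 1), (21, 3), (22, 2), (23, 3), (24, 2), (25, 2), (27, 1), (28, 1), (29, 2), (30, 3), (31, 2), (32, 1), (33, 3), (34, 1), (36, 1), (37, 1), (38, 3), (39, 2), (40, 1), (41, 1), (42, 1), (43, 3), (44, 3), (46, 3), (47, 1), (48, 2), (50, 2), (51, 2), (54, 1), (55, 1), (56, 2), (57, 3), (58, 3), (59, 2), (61, 2), (62, 2), (63, 1), (64, 1), (65, 3), (66, 1), (67, 1), (69, 1), (70, 3), (71, 3), (73, 3), (74, 3), (75, 2), (76, 3), (77, 2), (78, 1), (79, 3), (80, 1), (81, 1), (83, 1), (84, 1), (85, 2), (86, 2), (87, 1), (89, 3), (90, 1), (91, 3), (92, 2), (93, 1), (98, 3), (101, 1), (102, 1), (103, 1), (104, 2), (105, 1), (106, 2), (107, 3), (108, 2), (109, 2), (110, 2)],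
    [],
    [(1, 3), (2, 3), (3, 3), (4, 1), (5, 3), (6, 1), (8, 1), (9, 2), (12, 3), (15, 3), (16, 2), (17, 2), (19, 1), (20, 1), (22, 2), (24, 2), (25, 2), (28, 3), (29, 1), (30, 1), (31, 2), (32, 2), (33, 2), (34, 3), (35, 2), (36, 3), (37, 2), (38, 2), (40, 3), (41, 1), (42, 1), (44, 1), (45, 2), (46, 3), (47, 1), (50, 2), (51, 1), (52, 2), (54, 2), (56, 1), (57, 1), (58, 1), (60, 3), (62, 3), (63, 2), (65, 1), (67, 1), (68, 2), (69, 1), (72, 2), (74, 2), (75, 2), (77, 3), (78, 3), (79, 3), (81, 1), (82, 1), (83, 1), (84, 2), (86, 2), (87, 1), (88, 3), (89, 1), (90, 3), (93, 1), (94, 3), (95, 1), (96, 3), (97, 3), (98, 3), (99, 1), (100, 1), (101, 1), (102, 1), (103, 1), (104, 2), (105, 1), (106, 2), (107, 3), (108, 2), (109, 2), (110, 2)]]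

/-- Part 1 of combinations. -/
def zcombC1 : List (List (ℕ × ℕ)) :=
  [[(0, 3), (1, 1), (2, 1), (3, 3), (4, 3), (5, 3), (6, 3), (7, 1), (8, 3), (9, 2), (10, 1), (12, 2), (13, 3), (14, 2), (16, 3), (17, 2), (18, 3), (20, 1), (21, 2), (24, 1), (25, 3), (26, 3), (29, 3), (30, 2), (31, 1), (32, 2), (33, 3), (34, 1), (35, 3), (37, 1), (39, 2), (40, 1), (41, 3), (42, 3), (44, 3), (47, 1), (48, 1), (49, 2), (53, 1), (54, 3), (56, 3), (57, 2), (58, 3), (59, 2), (62, 1), (63, 2), (65, 2), (66, 1), (67, 3), (68, 2), (69, 2), (70, 1), (71, 1), (72, 3), (73, 3), (74, 1), (75, 3), (76, 1), (78, 1), (79, 1), (80, 1), (82, 2), (83, 2), (87, 3), (88, 1), (89, 2), (90, 1), (91, 2), (93, 2), (94, 2), (95, 2), (96, 2), (97, 2), (98, 2), (99, 2), (100, 2), (101, 2), (102, 2), (103, 2), (105, 2), (107, 2)],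
    [(0, 1), (3, 2), (4, 3), (5, 2), (6, 2), (7, 3), (8, 2), (9, 1), (12, 1), (13, 3), (14, 1), (15, 2), (16, 1), (17, 3), (19, 3), (20, 2), (21, 3), (22, 3), (24, 1), (25, 2), (26, 3), (27, 1), (28, 3), (29, 2), (30, 3), (31, 1), (32, 1), (33, 1), (35, 1), (36, 1), (37, 3), (38, 2), (39, 3), (40, 3), (41, 3), (42, 1), (44, 2), (45, 1), (46, 1), (47, 1), (50, 2), (51, 2), (53, 1), (56, 3), (57, 3), (58, 3), (59, 1), (62, 3), (63, 3), (64, 2), (65, 3), (67, 3), (68, 1), (69, 1), (70, 3), (71, 1), (72, 3), (74, 2), (75, 2), (76, 3), (77, 3), (78, 3), (79, 1), (81, 1), (82, 3), (83, 2), (84, 1), (85, 2), (86, 1), (87, 1), (88, 2), (89, 2), (90, 1), (91, 3), (92, 2), (93, 2), (98, 2), (101, 2)],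
    [(0, 2), (3, 2), (6, 2), (7, 2), (8, 2), (9, 2), (10, 1), (11, 3), (12, 1), (13, 2), (14, 2), (15, 3), (16, 3), (17, 2), (18, 3), (20, 1), (21, 2), (22, 3), (25, 3), (26, 2), (28, 1), (29, 1), (30, 2), (33, 3), (34, 3), (35, 2), (37, 3), (38, 1), (39, 2), (40, 3), (41, 2), (42, 2), (43, 1), (46, 2), (47, 1), (48, 2), (49, 3), (50, 3), (51, 1), (53, 2), (55, 3), (56, 3), (57, 1), (58, 2), (59, 1), (60, 3), (62, 1), (63, 1), (64, 3), (67, 3), (68, 3), (70, 2), (72, 2), (73, 3), (74, 2), (75, 1), (76, 1), (77, 1), (78, 3), (80, 1), (81, 3), (82, 2), (83, 2), (84, 1), (85, 2), (86, 2), (90, 3), (91, 1), (92, 1), (93, 2), (94, 2), (95, 2), (96, 2), (97, 2), (98, 2), (99, 2), (100, 2), (101, 2), (102, 2), (103, 2), (105, 2), (107, 2), (108, 2), (109, 2), (110, 2)],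
    [(0, 3), (1, 3), (2, 3), (3, 1), (4, 3), (5, 3), (6, 3), (7, 1), (8, 3), (9, 1), (10, 3), (11, 3), (12, 3), (13, 2), (14, 1), (15, 3), (16, 2), (18, 3), (19, 1), (20, 1), (21, 1), (22, 3), (23, 2), (24, 1), (25, 1), (26, 3), (27, 2), (28, 1), (29, 3), (30, 1), (31, 2), (32, 2), (35, 3), (36, 3), (37, 1), (38, 3), (39, 1), (43, 3), (44, 1), (45, 2), (47, 1), (48, 1), (50, 3), (51, 2), (52, 3), (53, 1), (54, 1), (55, 1), (56, 2), (57, 1), (58, 3), (59, 3), (60, 2), (61, 2), (63, 2), (64, 3), (67, 1), (68, 3), (70, 3), (71, 1), (72, 2), (73, 2), (74, 2), (75, 1), (76, 1), (77, 1), (79, 3), (80, 2), (81, 2), (82, 2), (83, 3), (84, 2), (85, 1), (86, 3), (87, 2), (88, 3), (90, 3), (91, 2), (92, 3), (93, 2), (94, 2), (95, 2), (96, 2), (97, 2), (98, 2), (99, 2), (100, 2), (101, 2), (108, 2), (109, 2), (110, 2)],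
    [(1, 3), (2, 3), (3, 3), (4, 2), (5, 1), (6, 1), (8, 1), (9, 3), (10, 3), (11, 3), (12, 2), (13, 1), (15, 3), (19, 3), (20, 3), (21, 2), (22, 2), (23, 1), (24, 2), (25, 3), (27, 2), (28, 3), (29, 2), (30, 1), (31, 1), (32, 2), (33, 1), (34, 3), (35, 2), (36, 3), (37, 2), (38, 3), (39, 2), (40, 1), (41, 1), (45, 1), (46, 1), (47, 2), (48, 3), (49, 2), (50, 2), (51, 3), (52, 1), (53, 2), (54, 2), (56, 3), (57, 3), (59, 3), (61, 2), (62, 3), (63, 2), (64, 2), (66, 2), (67, 2), (68, 3), (69, 3), (70, 1), (71, 3), (72, 2), (73, 3), (75, 2), (76, 2), (77, 2), (78, 1), (79, 2), (80, 1), (82, 3), (83, 2), (84, 2), (85, 2), (86, 2), (87, 1), (88, 1), (91, 1), (92, 1), (94, 2), (95, 2), (96, 2), (97, 2), (99, 2), (100, 2)],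
    [(0, 3), (1, 2), (2, 2), (3, 2), (4, 1), (6, 2), (7, 1), (8, 2), (10, 2), (12, 1), (14, 3), (15, 2), (16, 1), (17, 3), (20, 2), (21, 2), (22, 1), (23, 3), (24, 1), (25, 2), (26, 2), (27, 2), (28, 3), (29, 3), (31, 3), (32, 2), (33, 2), (34, 2), (37, 2), (38, 2), (39, 2), (40, 1), (42, 2), (43, 2), (45, 2), (46, 1), (47, 1), (48, 3), (49, 3), (50, 1), (51, 3), (52, 3), (53, 1), (54, 2), (55, 2), (56, 2), (57, 1), (59, 3), (60, 1), (61, 1), (64, 3), (65, 3), (66, 2), (67, 2), (69, 3), (71, 2), (73, 3), (74, 2), (75, 3), (80, 1), (81, 1), (84, 2), (85, 1), (86, 2), (87, 3), (88, 3), (89, 1), (90, 3), (102, 2), (103, 2), (105, 2), (107, 2), (108, 2), (109, 2), (110, 2)],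
    [],
    []]

/-- Part 2 of combinations. -/
def zcombC2 : List (List (ℕ × ℕ)) :=
  [[],
    [(0, 1)],
    [],
    [],
    [],
    [],
    [(0, 3), (4, 3), (7, 1), (9, 3), (10, 3), (11, 3), (12, 2), (13, 1), (14, 3), (16, 1), (17, 3), (19, 3), (20, 1), (21, 1), (23, 1), (24, 2), (25, 1), (27, 1), (28, 1), (29, 1), (31, 3), (32, 2), (37, 3), (38, 2), (39, 1), (41, 1), (42, 3), (43, 2), (44, 2), (46, 1), (47, 3), (48, 3), (51, 3), (52, 2), (53, 2), (54, 2), (55, 3), (56, 1), (58, 2), (59, 2), (60, 2), (61, 2), (62, 2), (63, 3), (64, 3), (65, 2), (67, 3), (69, 1), (70, 1), (71, 3), (75, 1), (76, 2), (77, 1), (78, 3), (79, 2), (81, 1), (82, 3), (83, 3), (84, 2), (85, 2), (86, 2), (87, 2), (88, 1), (89, 2), (91, 3), (93, 2), (94, 2), (95, 2), (96, 2), (97, 2), (98, 2), (99, 2), (100, 2), (101, 2), (102, 2), (103, 2), (105, 2), (107, 2)],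
    [(0, 2), (5, 2), (6, 2), (7, 2), (8, 2), (9, 2), (11, 1), (14, 3), (15, 3), (17, 1), (18, 3), (21, 2), (24, 1), (25, 2), (26, 2), (27, 3), (28, 3), (30, 1), (32, 2), (33, 2), (34, 3), (35, 1), (36, 1), (37, 3), (38, 1), (39, 2), (41, 2), (42, 1), (43, 2), (46, 1), (51, 3), (52, 1), (54, 1), (56, 2), (57, 1), (58, 2), (60, 3), (62, 2), (63, 2), (64, 1), (66, 2), (67, 3), (68, 1), (69, 1), (72, 2), (73, 3), (74, 2), (75, 2), (76, 1), (77, 3), (78, 3), (79, 1), (80, 1), (83, 3), (84, 2), (85, 3), (90, 1), (91, 2), (93, 2), (94, 2), (95, 2), (96, 2), (97, 2), (98, 2), (99, 2), (100, 2), (101, 2), (102, 2), (103, 2), (105, 2), (107, 2)]]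

/-- Part 3 of combinations. -/
def zcombC3 : List (List (ℕ × ℕ)) :=
  [[],
    [],
    [(0, 3), (1, 3), (2, 3), (3, 1), (4, 3), (5, 3), (6, 3), (7, 1), (8, 3), (10, 1), (11, 1), (12, 2), (13, 1), (14, 3), (15, 1), (16, 3), (17, 1), (18, 1), (20, 3), (21, 1), (24, 1), (25, 3), (26, 3), (27, 1), (28, 3), (29, 1), (30, 1), (31, 3), (32, 2), (33, 3), (34, 1), (35, 3), (36, 3), (37, 3), (39, 1), (40, 3), (41, 3), (42, 1), (43, 2), (44, 3), (46, 3), (47, 2), (48, 1), (49, 1), (51, 1), (52, 2), (54, 3), (55, 2), (56, 3), (57, 3), (58, 1), (59, 3), (60, 2), (61, 2), (64, 1), (65, 1), (66, 2), (67, 2), (69, 2), (71, 1), (72, 1), (74, 3), (75, 1), (76, 2), (78, 1), (79, 2), (81, 2), (83, 1), (84, 2), (85, 3), (86, 3), (88, 2), (89, 2), (90, 1), (92, 2), (93, 2), (94, 2), (95, 2), (96, 2), (97, 2), (98, 2), (99, 2), (100, 2), (101, 2), (102, 2), (103, 2), (105, 2), (107,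 2)],
    [],
    [(0, 2), (1, 3), (2, 3), (3, 2), (4, 2), (5, 2), (6, 3), (8, 3), (9, 2), (10, 2), (11, 1), (12, 3), (13, 1), (15, 3), (16, 1), (17, 1), (18, 3), (19, 3), (20, 3), (21, 1), (22, 1), (23, 1), (24, 1), (25, 2), (26, 3), (27, 2), (28, 1), (29, 2), (30, 3), (31, 3), (33, 3), (34, 3), (35, 2), (36, 1), (37, 3), (39, 2), (41, 3), (42, 2), (44, 2), (45, 3), (47, 1), (48, 2), (49, 1), (50, 2), (51, 2), (52, 1), (54, 3), (58, 3), (60, 1), (61, 1), (62, 1), (63, 3), (64, 1), (66, 2), (68, 3), (69, 1), (72, 2), (74, 1), (76, 2), (77, 3), (78, 1), (79, 1), (81, 1), (82, 3), (83, 1), (84, 3), (85, 3), (86, 1), (87, 1), (88, 3), (90, 1), (91, 2), (92, 3), (93, 1), (94, 2), (95, 2), (96, 2), (97, 2), (98, 3), (99, 2), (100, 2), (101, 1), (102, 1), (103, 1), (104, 2), (105, 1), (106, 2), (107, 3), (108, 1), (109, 1), (110, 3)],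
    [(0, 1), (1, 1), (2, 1), (3, 3), (5, 1), (6, 2), (7, 3), (8, 2), (10, 2), (11, 1), (12, 1), (13, 2), (14, 1), (15, 3), (16, 1), (17, 3), (18, 1), (19, 3), (20, 2), (21, 2), (22, 3), (23, 2), (24, 2), (25, 2), (26, 3), (27, 1), (28, 3), (31, 1), (32, 3), (33, 1), (34, 1), (35, 1), (36, 3), (38, 1), (39, 2), (40, 1), (41, 2), (42, 1), (43, 1), (44, 3), (46, 2), (48, 3), (49, 3), (51, 2), (53, 3), (54, 3), (56, 3), (57, 1), (58, 1), (59, 2), (60, 3), (62, 1), (63, 2), (65, 1), (66, 3), (67, 2), (71, 3), (72, 1), (73, 2), (75, 3), (76, 2), (77, 3), (78, 3), (79, 2), (80, 2), (82, 2), (83, 3), (84, 2), (85, 1), (88, 2), (89, 1), (91, 3), (92, 1), (93, 3), (94, 3), (95, 1), (96, 3), (97, 3), (98, 1), (99, 1), (100, 1), (101, 3), (108, 3), (109, 3), (110, 1)],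
    [(3, 1)],
    [(1, 1), (2, 1), (3, 3), (4, 1), (5, 1), (6, 3), (8, 3), (9, 1), (11, 2), (14, 3), (15, 1), (16, 2), (17, 3), (18, 1), (21, 2), (22, 1), (23, 1), (24, 1), (25, 3), (26, 3), (27, 1), (28, 3), (29, 1), (32, 3), (33, 3), (34, 1), (35, 1), (38, 3), (39, 1), (40, 3), (42, 1), (44, 2), (45, 1), (46, 1), (47, 2), (48, 2), (50, 3), (52, 3), (53, 2), (54, 1), (55, 1), (56, 3), (57, 1), (58, 3), (59, 3), (61, 1), (62, 2), (63, 3), (64, 2), (65, 2), (66, 2), (67, 2), (69, 3), (70, 2), (71, 2), (72, 3), (75, 2), (76, 1), (77, 2), (79, 1), (81, 1), (82, 2), (83, 3), (85, 1), (86, 2), (87, 3), (88, 2), (91, 3), (92, 3), (93, 1), (94, 3), (95, 1), (96, 3), (97, 3), (98, 3), (99, 1), (100, 1), (101, 1), (102, 1), (103, 1), (104, 2), (105, 1), (106, 2), (107, 3), (108, 2), (109, 2), (110, 2)]]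

/-- Part 4 of combinations. -/
def zcombC4 : List (List (ℕ × ℕ)) :=
  [[(3, 1), (4, 1), (5, 2), (6, 2), (7, 2), (8, 2), (9, 3), (10, 2), (11, 3), (13, 3), (14, 3), (16, 1), (19, 1), (20, 3), (21, 2), (23, 3), (24, 3), (25, 1), (26, 1), (27, 3), (28, 1), (29, 3), (30, 1), (31, 3), (32, 1), (33, 2), (34, 1), (35, 3), (36, 3), (37, 2), (38, 2), (40, 2), (41, 3), (42, 1), (43, 1), (44, 3), (45, 3), (48, 3), (50, 3), (52, 3), (53, 2), (54, 2), (56, 3), (59, 1), (60, 1), (61, 2), (62, 2), (63, 1), (64, 1), (65, 3), (67, 2), (68, 2), (69, 1), (70, 1), (71, 3), (72, 3), (73, 2), (75, 3), (77, 1), (78, 2), (79, 2), (80, 2), (81, 3), (82, 2), (83, 1), (85, 3), (87, 3), (88, 2), (89, 3), (90, 2), (93, 2), (94, 1), (95, 3), (96, 1), (97, 1), (98, 2), (99, 3), (100, 3), (101, 2), (102, 1), (103, 1), (104, 2), (105, 1), (106, 2), (107, 3), (108, 2), (109, 2), (110, 2)],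
    [(4, 1), (5, 2), (10, 1), (12, 3), (13, 3), (14, 3), (15, 2), (16, 1), (17, 1), (19, 1), (20, 2), (24, 1), (25, 3), (26, 2), (28, 2), (29, 2), (30, 3), (31, 1), (32, 2), (33, 1), (34, 3), (35, 2), (36, 3), (37, 2), (38, 3), (40, 1), (41, 1), (42, 2), (45, 2), (47, 2), (48, 1), (50, 1), (51, 3), (52, 2), (53, 1), (54, 3), (55, 2), (56, 3), (57, 2), (59, 2), (60, 3), (62, 2), (66, 2), (67, 2), (68, 3), (69, 1), (70, 3), (72, 1), (73, 2), (75, 3), (76, 1), (78, 1), (80, 2), (81, 1), (82, 2), (83, 2), (84, 1), (85, 2), (86, 1), (87, 2), (88, 1), (89, 3), (93, 3), (94, 3), (95, 1), (96, 3), (97, 3), (98, 1), (99, 1), (100, 1), (101, 3), (102, 1), (103, 1), (104, 2), (105, 1), (106, 2), (107, 3), (108, 2), (109, 2), (110, 2)],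
    [(0, 1), (7, 3), (9, 1), (10, 3), (12, 3), (13, 2), (14, 3), (15, 3), (16, 3), (17, 2), (18, 1), (19, 2), (21, 1), (22, 2), (23, 1), (25, 1), (27, 3), (28, 3), (29, 3), (30, 3), (31, 1), (35, 3), (37, 1), (38, 1), (40, 1), (41, 3), (42, 1), (44, 2), (45, 2), (47, 1), (48, 3), (50, 3), (51, 3), (54, 3), (56, 2), (59, 3), (60, 1), (61, 3), (62, 1), (63, 2), (64, 2), (65, 1), (66, 3), (67, 2), (69, 2), (70, 1), (72, 2), (73, 2), (75, 2), (78, 3), (80, 2), (81, 2), (82, 1), (83, 2), (84, 3), (85, 2), (86, 3), (88, 2), (90, 2), (91, 2), (93, 3), (94, 3), (95, 1), (96, 3), (97, 3), (98, 1), (99, 1), (100, 1), (101, 3), (102, 1), (103, 1), (104, 2), (105, 1), (106, 2), (107, 3), (108, 2), (109, 2), (110, 2)],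
    [],
    [(3, 2), (44, 1)],
    [(0, 1), (1, 1), (2, 1), (3, 1), (4, 3), (5, 1), (6, 3), (7, 3), (8, 3), (9, 2), (10, 3), (12, 3), (13, 1), (14, 1), (15, 1), (16, 3), (18, 3), (19, 2), (20, 3), (21, 2), (22, 3), (23, 1), (25, 2), (26, 1), (27, 1), (29, 2), (30, 1), (32, 3), (33, 1), (34, 2), (35, 1), (36, 1), (37, 2), (39, 3), (40, 3), (41, 1), (43, 1), (44, 3), (45, 1), (46, 2), (47, 2), (49, 3), (51, 2), (55, 1), (56, 1), (57, 2), (58, 2), (60, 1), (62, 3), (64, 3), (65, 2), (67, 1), (68, 2), (69, 3), (72, 2), (73, 1), (74, 2), (75, 1), (77, 1), (78, 3), (79, 3), (80, 3), (81, 1), (85, 2), (87, 1), (88, 1), (89, 1), (90, 2), (91, 1), (92, 3), (93, 2), (98, 2), (101, 2)],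
    [(0, 1), (1, 2), (2, 2), (4, 1), (7, 3), (9, 2), (10, 1), (11, 3), (12, 2), (14, 2), (16, 1), (17, 3), (18, 2), (19, 2), (20, 3), (23, 2), (24, 3), (26, 3), (27, 3), (28, 3), (29, 2), (30, 3), (31, 1), (32, 3), (33, 1), (34, 1), (36, 1), (37, 3), (38, 2), (39, 1), (41, 1), (42, 3), (43, 2), (44, 3), (45, 3), (46, 1), (47, 1), (48, 3), (49, 1), (51, 1), (53, 2), (54, 1), (55, 2), (56, 3), (57, 2), (59, 3), (60, 2), (61, 2), (63, 1), (64, 1), (65, 2), (67, 1), (68, 3), (70, 2), (71, 1), (72, 3), (73, 3), (74, 2), (75, 2), (76, 3), (77, 3), (78, 1), (80, 1), (81, 2), (82, 1), (84, 2), (85, 3), (87, 1), (88, 2), (91, 2), (92, 3), (94, 2), (95, 2), (96, 2), (97, 2), (99, 2), (100, 2), (102, 2), (103, 2), (105, 2), (107, 2), (108, 2), (109, 2), (110, 2)],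
    [(0, 3), (1, 1), (2, 1), (3, 2), (4, 2), (5, 2), (7, 1), (10, 1), (12, 3), (13, 3), (14, 3), (15, 2), (16, 1), (18, 2), (19, 3), (22, 3), (23, 3), (24, 1), (25, 1), (26, 3), (27, 3), (30, 1), (31, 2), (33, 3), (34, 2), (35, 1), (37, 2), (38, 3), (39, 2), (41, 3), (42, 1), (43, 1), (44, 3), (45, 2), (46, 3), (47, 3), (50, 2), (51, 1), (52, 1), (54, 3), (57, 3), (58, 2), (59, 3), (60, 2), (61, 2), (62, 3), (63, 1), (65, 3), (67, 1), (69, 1), (72, 1), (73, 1), (75, 2), (76, 1), (77, 2), (80, 3), (81, 2), (82, 2), (83, 1), (84, 2), (85, 1), (86, 3), (87, 2), (88, 1), (89, 1), (90, 2), (91, 2), (92, 3), (93, 3), (94, 3), (95, 1), (96, 3), (97, 3), (98, 1), (99, 1), (100, 1), (101, 3), (102, 1), (103, 1), (104, 2), (105, 1), (106, 2), (107, 3), (108, 3), (109, 3), (110, 1)]]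

/-- Part 5 of combinations. -/
def zcombC5 : List (List (ℕ × ℕ)) :=
  [[(4, 3), (7, 1), (10, 2), (12, 1), (13, 3), (14, 3), (15, 2), (16, 2), (17, 1), (19, 2), (22, 1), (23, 1), (24, 2), (25, 3), (27, 2), (28, 3), (29, 3), (31, 2), (32, 2), (33, 3), (34, 2), (35, 2), (37, 2), (39, 2), (41, 2), (42, 2), (43, 1), (44, 2), (45, 1), (46, 2), (47, 3), (49, 1), (50, 2), (51, 1), (53, 3), (55, 2), (56, 1), (57, 1), (59, 1), (60, 3), (61, 3), (63, 2), (64, 3), (65, 2), (66, 2), (68, 3), (69, 1), (70, 1), (71, 1), (72, 2), (74, 1), (75, 3), (76, 3), (77, 1), (81, 3), (82, 2), (83, 2), (84, 3), (85, 1), (86, 1), (87, 2), (88, 2), (91, 2), (92, 2), (93, 1), (94, 2), (95, 2), (96, 2), (97, 2), (98, 3), (99, 2), (100, 2), (101, 2), (102, 2), (103, 2), (105, 2), (107, 2)],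
    [(0, 1), (1, 1), (2, 1), (3, 1), (4, 1), (5, 1), (6, 3), (7, 1), (8, 3), (10, 3), (11, 1), (14, 2), (15, 3), (17, 3), (19, 3), (20, 2), (21, 2), (22, 1), (23, 2), (24, 2), (26, 3), (30, 1), (32, 2), (33, 2), (34, 3), (35, 1), (36, 2), (37, 1), (38, 2), (40, 1), (41, 1), (42, 3), (43, 3), (44, 3), (45, 1), (46, 2), (47, 2), (49, 2), (51, 3), (52, 1), (53, 2), (55, 2), (56, 2), (57, 1), (59, 3), (60, 3), (61, 2), (63, 3), (64, 1), (65, 3), (66, 2), (67, 3), (68, 2), (69, 2), (70, 1), (71, 2), (72, 1), (74, 2), (75, 3), (76, 3), (77, 1), (78, 2), (79, 2), (81, 1), (82, 3), (83, 3), (84, 3), (85, 3), (86, 1), (87, 2), (88, 3), (89, 2), (90, 1), (91, 1), (92, 3), (93, 1), (98, 3), (101, 1), (102, 3), (103, 3), (104, 2), (105, 3), (106, 2), (107, 1)],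
    [(0, 3), (1, 2), (2, 2), (3, 2), (4, 3), (5, 2), (7, 1), (9, 1), (11, 2), (12, 1), (13, 3), (14, 2), (16, 1), (17, 1), (18, 3), (20, 2), (21, 1), (22, 2), (23, 1), (24, 2), (25, 2), (26, 2), (27, 2), (31, 2), (33, 2), (34, 3), (35, 2), (36, 3), (39, 3), (40, 2), (41, 1), (42, 1), (43, 3), (45, 1), (46, 2), (48, 3), (49, 1), (52, 1), (54, 2), (55, 3), (56, 2), (57, 2), (59, 3), (61, 1), (62, 3), (64, 1), (65, 3), (67, 2), (68, 1), (69, 3), (72, 3), (73, 3), (74, 1), (75, 1), (76, 1), (77, 3), (79, 1), (80, 1), (81, 3), (83, 1), (84, 2), (85, 2), (86, 3), (87, 2), (88, 3), (89, 2), (90, 3), (91, 3), (92, 3), (93, 2), (94, 2), (95, 2), (96, 2), (97, 2), (98, 2), (99, 2), (100, 2), (101, 2), (102, 2), (103, 2), (105, 2), (107, 2)],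
    [(1, 3), (2, 3), (3, 1), (4, 1), (5, 3), (6, 3), (8, 3), (9, 3), (10, 3), (11, 2), (12, 2), (14, 2), (15, 2), (16, 1), (17, 1), (18, 1), (19, 2), (20, 2), (21, 3), (22, 3), (23, 3), (24, 3), (25, 1), (26, 3), (27, 3), (28, 3), (29, 2), (31, 3), (33, 3), (35, 3), (36, 3), (37, 1), (38, 1), (39, 3), (40, 2), (41, 1), (42, 2), (46, 2), (49, 2), (51, 3), (52, 3), (53, 3), (54, 2), (55, 2), (56, 2), (57, 3), (59, 3), (60, 3), (61, 1), (63, 1), (64, 3), (65, 1), (66, 2), (68, 2), (69, 2), (70, 3), (71, 3), (73, 2), (74, 1), (75, 3), (76, 1), (77, 2), (78, 2), (80, 2), (81, 3), (82, 2), (83, 2), (84, 2), (85, 2), (86, 2), (87, 1), (89, 1), (90, 1), (91, 2), (92, 3), (93, 1), (94, 3), (95, 1), (96, 3), (97, 3), (98, 3), (99, 1), (100, 1), (101, 1), (102, 1), (103, 1), (104, 2), (105, 1), (106, 2), (107, 3), (108, 2), (109, 2), (110, 2)],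
    [(0, 1), (1, 1), (2, 1), (3, 1), (4, 3), (5, 1), (6, 1), (7, 3), (8, 1), (9, 3), (10, 2), (11, 3), (12, 3), (14, 3), (15, 2), (16, 1), (17, 3), (19, 1), (20, 2), (21, 3), (22, 3), (23, 1), (24, 3), (26, 1), (28, 1), (31, 2), (33, 2), (34, 1), (35, 2), (36, 2), (37, 3), (38, 3), (41, 2), (43, 1), (45, 3), (46, 1), (47, 3), (48, 1), (50, 2), (51, 2), (53, 2), (54, 1), (55, 2), (56, 3), (57, 1), (58, 1), (59, 2), (60, 1), (61, 3), (62, 3), (64, 3), (66, 1), (68, 3), (70, 2), (71, 2), (73, 3), (74, 3), (75, 2), (77, 2), (79, 3), (80, 1), (81, 1), (82, 3), (83, 3), (85, 3), (86, 3), (87, 1), (88, 1), (89, 1), (91, 2), (92, 2)],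
    [(0, 2), (6, 2), (7, 2), (8, 2), (9, 3), (10, 1), (11, 1), (13, 2), (17, 3), (19, 3), (20, 3), (21, 3), (23, 3), (24, 1), (25, 1), (27, 3), (28, 2), (29, 1), (30, 3), (31, 3), (32, 1), (33, 3), (34, 3), (36, 2), (37, 2), (38, 1), (41, 3), (42, 1), (43, 2), (46, 1), (47, 2), (48, 2), (49, 1), (51, 3), (52, 3), (53, 3), (54, 1), (56, 1), (57, 1), (58, 3), (59, 1), (60, 3), (61, 3), (62, 1), (63, 3), (64, 2), (65, 3), (67, 1), (68, 3), (71, 3), (74, 3), (75, 2), (76, 1), (77, 2), (78, 1), (79, 1), (81, 3), (83, 2), (84, 3), (85, 1), (86, 3), (87, 1), (88, 3), (89, 2), (90, 3), (91, 2), (92, 2), (93, 2), (94, 2), (95, 2), (96, 2), (97, 2), (98, 2), (99, 2), (100, 2), (101, 2), (102, 2), (103, 2), (105, 2), (107, 2)],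
    [(1, 1), (2, 1), (3, 3), (5, 1), (6, 3), (8, 3), (9, 1), (10, 2), (11, 3), (12, 2), (13, 2), (14, 3), (17, 2), (18, 1), (19, 3), (20, 2), (21, 2), (22, 2), (24, 2), (25, 3), (26, 2), (29, 1), (30, 3), (31, 3), (32, 3), (34, 1), (36, 1), (37, 1), (38, 3), (39, 1), (40, 2), (41, 3), (43, 2), (46, 3), (47, 3), (48, 3), (49, 1), (50, 3), (51, 2), (52, 3), (53, 3), (54, 2), (55, 1), (57, 1), (58, 1), (59, 2), (60, 2), (61, 3), (62, 2), (64, 2), (65, 1), (67, 1), (68, 1), (69, 3), (70, 2), (72, 3), (73, 1), (74, 1), (75, 2), (77, 2), (78, 2), (80, 3), (81, 1), (83, 3), (84, 3), (85, 3), (86, 2), (87, 2), (88, 1), (89, 3), (90, 1), (91, 1), (92, 1), (93, 2), (98, 2), (101, 2)],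
    [(1, 2), (2, 2), (9, 2), (10, 2), (11, 3), (12, 3), (13, 1), (14, 1), (15, 1), (17, 1), (18, 2), (19, 2), (20, 2), (22, 1), (23, 1), (24, 3), (26, 1), (27, 1), (29, 1), (31, 1), (32, 3), (33, 1), (35, 3), (36, 3), (38, 1), (39, 3), (40, 2), (42, 3), (43, 3), (45, 1), (49, 2), (50, 3), (51, 2), (52, 1), (54, 3), (55, 1), (58, 2), (60, 3), (62, 1), (63, 1), (64, 3), (65, 2), (67, 1), (68, 2), (69, 3), (70, 1), (71, 2), (72, 2), (74, 1), (78, 3), (79, 2), (81, 2), (82, 3), (84, 1), (85, 3), (86, 1), (87, 2), (89, 3), (90, 1), (91, 1), (92, 2), (93, 2), (98, 2), (101, 2)]]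

/-- Part 6 of combinations. -/
def zcombC6 : List (List (ℕ × ℕ)) :=
  [[(1, 3), (2, 3), (3, 3), (4, 2), (5, 3), (6, 3), (8, 3), (10, 2), (11, 1), (12, 1), (13, 2), (14, 3), (15, 3), (16, 3), (17, 1), (18, 2), (22, 3), (23, 1), (24, 3), (26, 3), (28, 3), (30, 3), (31, 3), (32, 1), (33, 3), (34, 2), (35, 2), (36, 3), (37, 3), (38, 2), (39, 3), (41, 1), (42, 2), (43, 3), (44, 2), (46, 3), (47, 2), (48, 2), (49, 2), (50, 3), (52, 2), (53, 1), (54, 2), (56, 1), (57, 2), (58, 1), (59, 1), (61, 3), (62, 3), (63, 2), (64, 3), (66, 3), (67, 1), (68, 2), (70, 1), (72, 3), (73, 1), (74, 1), (75, 3), (76, 2), (77, 1), (78, 1), (79, 3), (80, 3), (82, 3), (86, 3), (87, 2), (89, 2), (90, 3), (91, 3), (93, 2), (94, 2), (95, 2), (96, 2), (97, 2), (98, 2), (99, 2), (100, 2), (101, 2), (102, 2), (103, 2), (105, 2), (107, 2)],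
    [(0, 2), (1, 2), (2, 2), (3, 2), (4, 2), (6, 2), (7, 2), (8, 2), (9, 1), (10, 3), (11, 3), (13, 3), (14, 3), (16, 3), (18, 3), (19, 1), (20, 1), (21, 1), (22, 2), (25, 2), (26, 3), (28, 2), (30, 3), (32, 1), (33, 1), (34, 3), (36, 3), (37, 1), (38, 2), (39, 2), (40, 1), (41, 2), (42, 2), (43, 2), (44, 3), (46, 1), (47, 3), (48, 2), (50, 1), (51, 2), (53, 1), (54, 2), (55, 1), (56, 1), (57, 3), (58, 2), (59, 1), (60, 3), (61, 3), (63, 2), (70, 2), (71, 1), (73, 2), (75, 1), (76, 3), (77, 1), (78, 2), (79, 3), (80, 2), (81, 1), (83, 1), (84, 1), (85, 3), (86, 1), (87, 2), (88, 1), (89, 3), (90, 1), (91, 1), (92, 1), (93, 2), (98, 2), (101, 2)],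
    [(0, 2), (3, 2), (4, 3), (7, 2), (10, 1), (11, 2), (12, 3), (13, 2), (14, 3), (15, 3), (16, 3), (17, 2), (18, 2), (19, 2), (23, 3), (25, 1), (26, 1), (27, 1), (29, 2), (32, 3), (33, 3), (34, 1), (35, 3), (36, 2), (37, 1), (38, 3), (39, 2), (40, 3), (41, 1), (42, 2), (44, 2), (45, 1), (46, 1), (47, 3), (48, 3), (49, 3), (51, 3), (52, 1), (53, 1), (55, 2), (57, 2), (58, 1), (59, 3), (61, 1), (64, 1), (65, 2), (66, 1), (67, 1), (68, 3), (69, 1), (70, 2), (71, 1), (72, 1), (73, 2), (74, 3), (75, 1), (77, 3), (80, 2), (81, 2), (82, 1), (83, 2), (84, 1), (85, 1), (86, 2), (87, 2), (89, 2), (90, 3), (91, 2), (92, 3), (93, 1), (94, 3), (95, 1), (96, 3), (97, 3), (98, 3), (99, 1), (100, 1), (101, 1), (102, 1), (103, 1), (104, 2), (105, 1), (106, 2), (107, 3), (108, 2), (109, 2), (110, 2)],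
    [(0, 1), (1, 2), (2, 2), (3, 1), (5, 2), (6, 2), (7, 1), (8, 2), (9, 2), (10, 1), (11, 1), (12, 3), (13, 1), (14, 2), (15, 3), (17, 1), (18, 3), (19, 2), (21, 3), (22, 1), (24, 3), (25, 2), (26, 3), (27, 1), (28, 1), (29, 1), (30, 3), (31, 3), (32, 3), (33, 1), (34, 3), (36, 2), (37, 2), (38, 3), (39, 1), (40, 1), (41, 1), (42, 1), (43, 2), (46, 2), (48, 2), (49, 1), (50, 3), (51, 1), (54, 3), (56, 2), (58, 3), (59, 1), (61, 2), (62, 3), (63, 2), (64, 3), (65, 3), (66, 3), (68, 3), (70, 3), (71, 3), (72, 2), (74, 3), (75, 3), (77, 1), (78, 3), (79, 3), (84, 1), (85, 1), (86, 2), (87, 2), (88, 1), (90, 3), (91, 2), (92, 2), (93, 2), (94, 1), (95, 3), (96, 1), (97, 1), (98, 2), (99, 3), (100, 3), (101, 2), (102, 1), (103, 1), (104, 2), (105, 1), (106, 2), (107, 3), (108, 2), (109, 2), (110, 2)],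
    [(0, 1), (1, 2), (2, 2), (3, 2), (5, 2), (6, 2), (7, 3), (8, 2), (9, 1), (10, 1), (11, 1), (12, 1), (13, 1), (14, 3), (15, 1), (17, 2), (21, 2), (22, 2), (23, 3), (24, 2), (25, 3), (27, 3), (28, 1), (31, 2), (32, 2), (33, 2), (34, 1), (36, 2), (37, 2), (39, 1), (40, 2), (41, 3), (43, 1), (44, 3), (46, 1), (47, 1), (48, 2), (49, 2), (51, 2), (52, 2), (53, 2), (54, 2), (56, 3), (57, 3), (58, 1), (61, 2), (64, 3), (65, 3), (66, 3), (67, 2), (68, 1), (70, 3), (71, 2), (72, 3), (73, 2), (74, 1), (75, 2), (76, 1), (77, 2), (79, 1), (80, 2), (81, 3), (82, 3), (83, 1), (84, 1), (86, 3), (87, 2), (88, 2), (89, 2), (90, 1), (91, 3), (92, 1), (93, 1), (94, 3), (95, 1), (96, 3), (97, 3), (98, 3), (99, 1), (100, 1), (101, 1), (102, 1), (103, 1), (104, 2), (105, 1), (106, 2), (107, 3), (108, 2), (109, 2), (110, 2)],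
    [(0, 2), (1, 3), (2, 3), (3, 3), (4, 2), (5, 3), (6, 1), (7, 2), (8, 1), (9, 2), (11, 2), (12, 1), (14, 3), (15, 1), (17, 3), (18, 2), (20, 2), (21, 2), (22, 1), (23, 2), (24, 2), (26, 1), (27, 3), (29, 3), (30, 1), (32, 2), (34, 2), (35, 2), (36, 1), (37, 2), (39, 2), (40, 1), (41, 3), (42, 3), (43, 3), (45, 2), (46, 1), (47, 3), (48, 1), (49, 3), (50, 2), (51, 2), (52, 1), (53, 1), (54, 1), (55, 3), (56, 1), (57, 1), (58, 1), (59, 3), (60, 1), (61, 2), (62, 3), (64, 1), (66, 3), (67, 3), (68, 3), (69, 1), (70, 3), (71, 3), (75, 3), (76, 2), (77, 1), (78, 3), (81, 2), (82, 3), (83, 1), (84, 3), (87, 1), (88, 1), (90, 1), (91, 1), (92, 1), (93, 2), (98, 2), (101, 2), (108, 2), (109, 2), (110, 2)],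
    [(0, 3), (1, 3), (2, 3), (3, 3), (4, 1), (5, 3), (6, 1), (7, 1), (8, 1), (9, 1), (12, 3), (13, 3), (14, 2), (16, 3), (17, 3), (19, 3), (21, 3), (22, 3), (23, 1), (24, 3), (25, 2), (26, 3), (28, 3), (29, 1), (30, 2), (31, 1), (32, 3), (33, 2), (34, 1), (35, 3), (37, 2), (38, 3), (40, 3), (41, 2), (42, 3), (46, 2), (47, 3), (48, 2), (50, 1), (51, 1), (53, 3), (55, 2), (56, 3), (57, 2), (58, 1), (59, 2), (60, 2), (61, 1), (64, 1), (65, 3), (66, 2), (68, 1), (69, 2), (70, 2), (71, 1), (72, 3), (73, 3), (74, 2), (75, 2), (76, 3), (78, 1), (79, 3), (80, 1), (81, 1), (82, 2), (83, 2), (84, 2), (85, 1), (86, 2), (88, 3), (89, 1), (90, 1), (91, 1), (92, 1)],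
    [(0, 3), (1, 1), (2, 1), (3, 1), (4, 1), (5, 1), (6, 3), (7, 1), (8, 3), (9, 2), (11, 1), (12, 3), (13, 1), (14, 1), (15, 2), (16, 3), (17, 3), (19, 2), (21, 2), (22, 3), (23, 1), (24, 3), (27, 1), (29, 2), (31, 1), (34, 3), (35, 2), (37, 3), (38, 2), (40, 1), (41, 2), (43, 1), (44, 2), (46, 2), (47, 3), (49, 1), (50, 2), (51, 3), (52, 2), (53, 3), (54, 1), (57, 1), (59, 2), (60, 1), (61, 2), (62, 1), (64, 1), (65, 3), (66, 2), (68, 2), (70, 1), (71, 1), (72, 2), (74, 3), (75, 1), (77, 2), (78, 1), (81, 1), (83, 2), (85, 2), (86, 1), (87, 2), (89, 3), (91, 1), (92, 3), (93, 2), (98, 2), (101, 2), (108, 2), (109, 2), (110, 2)]]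

/-- Part 7 of combinations. -/
def zcombC7 : List (List (ℕ × ℕ)) :=
  [[(0, 1), (1, 1), (2, 1), (3, 1), (4, 3), (5, 1), (6, 1), (7, 3), (8, 1), (9, 3), (10, 3), (12, 3), (13, 2), (19, 3), (20, 3), (21, 2), (22, 1), (26, 1), (27, 3), (28, 1), (29, 2), (31, 1), (32, 2), (33, 1), (35, 2), (36, 2), (37, 3), (38, 2), (39, 2), (40, 2), (41, 2), (43, 3), (44, 1), (45, 2), (47, 2), (48, 1), (51, 2), (53, 2), (55, 3), (56, 2), (57, 1), (59, 2), (60, 3), (61, 3), (62, 3), (64, 1), (65, 2), (67, 2), (68, 3), (69, 2), (70, 2), (71, 2), (72, 3), (73, 1), (74, 3), (75, 2), (76, 3), (77, 1), (78, 3), (79, 1), (80, 3), (82, 3), (83, 1), (84, 2), (85, 3), (86, 2), (88, 3), (89, 3), (91, 1), (92, 1), (93, 2), (98, 2), (101, 2)],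
    [(0, 1), (4, 1), (6, 2), (7, 3), (8, 2), (10, 3), (11, 3), (12, 3), (14, 1), (16, 2), (17, 2), (18, 1), (19, 2), (20, 3), (21, 3), (22, 3), (23, 2), (24, 3), (25, 1), (26, 3), (27, 3), (29, 1), (30, 2), (32, 2), (33, 3), (34, 3), (35, 2), (36, 2), (37, 1), (38, 2), (39, 2), (40, 2), (41, 1), (42, 3), (43, 3), (44, 3), (46, 3), (47, 3), (48, 2), (50, 3), (51, 3), (54, 3), (55, 3), (59, 3), (60, 2), (61, 1), (62, 1), (63, 1), (64, 3), (65, 1), (66, 3), (68, 2), (69, 3), (70, 3), (71, 2), (72, 2), (73, 2), (74, 3), (75, 2), (76, 2), (78, 2), (79, 2), (80, 2), (82, 3), (83, 2), (85, 1), (87, 3), (88, 3), (89, 2), (90, 1), (91, 3), (92, 3), (94, 2), (95, 2), (96, 2), (97, 2), (99, 2), (100, 2), (102, 2), (103, 2), (105, 2), (107, 2)],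
    [(3, 2), (5, 2), (6, 2), (8, 2), (9, 3), (10, 1), (11, 1), (12, 1), (13, 3), (14, 1), (17, 1), (18, 1), (19, 3), (20, 3), (21, 3), (22, 1), (23, 1), (25, 1), (27, 2), (29, 3), (31, 3), (32, 2), (33, 3), (35, 1), (37, 2), (38, 1), (39, 2), (40, 1), (41, 1), (42, 1), (43, 1), (44, 3), (45, 1), (46, 3), (49, 2), (50, 2), (51, 2), (53, 3), (54, 3), (56, 2), (57, 1), (58, 2), (59, 2), (60, 1), (62, 3), (63, 2), (64, 3), (66, 2), (67, 3), (68, 3), (69, 2), (70, 1), (71, 1), (73, 2), (75, 1), (76, 1), (77, 2), (78, 3), (80, 2), (81, 3), (82, 3), (83, 3), (85, 1), (86, 1), (89, 3), (90, 1), (91, 2), (92, 2)],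
    [(0, 1), (1, 1), (2, 1), (3, 3), (4, 3), (5, 3), (6, 1), (7, 3), (8, 1), (9, 2), (10, 1), (11, 1), (12, 2), (14, 3), (16, 1), (17, 2), (18, 2), (20, 3), (22, 2), (24, 1), (25, 3), (26, 1), (27, 2), (28, 3), (29, 2), (30, 2), (31, 2), (32, 3), (33, 1), (34, 3), (35, 2), (38, 2), (39, 2), (40, 2), (41, 3), (42, 2), (43, 1), (44, 3), (45, 1), (46, 1), (47, 1), (48, 2), (49, 2), (50, 1), (51, 1), (54, 3), (55, 2), (56, 3), (57, 3), (58, 1), (60, 3), (61, 1), (62, 1), (63, 2), (64, 2), (65, 1), (67, 3), (68, 2), (70, 3), (72, 3), (73, 3), (74, 2), (75, 3), (76, 2), (77, 2), (78, 2), (79, 1), (80, 1), (81, 2), (82, 1), (83, 1), (84, 2), (86, 3), (88, 1), (89, 2), (91, 1), (92, 1)],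
    [(1, 2), (2, 2), (3, 2), (4, 1), (5, 2), (9, 1), (11, 1), (12, 1), (13, 1), (14, 3), (15, 3), (16, 1), (17, 1), (18, 2), (20, 3), (21, 2), (22, 2), (23, 1), (24, 3), (25, 1), (26, 1), (28, 2), (29, 3), (30, 3), (31, 1), (32, 2), (33, 1), (34, 1), (36, 1), (37, 1), (38, 1), (39, 1), (40, 1), (44, 2), (45, 2), (46, 1), (47, 3), (49, 3), (50, 3), (51, 2), (53, 2), (54, 3), (55, 2), (56, 2), (57, 2), (58, 1), (59, 3), (61, 2), (62, 3), (63, 3), (65, 1), (66, 1), (67, 1), (68, 3), (69, 1), (70, 1), (72, 3), (73, 2), (74, 1), (76, 2), (77, 2), (78, 3), (79, 3), (80, 2), (81, 1), (82, 2), (85, 1), (87, 3), (90, 1), (91, 3), (92, 2), (93, 3), (94, 3), (95, 1), (96, 3), (97, 3), (98, 1), (99, 1), (100, 1), (101, 3), (102, 1), (103, 1), (104, 2), (105, 1), (106, 2), (107, 3), (108, 2), (109, 2), (110, 2)],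
    [(1, 3), (2, 3), (3, 3), (5, 1), (6, 3), (8, 3), (9, 3), (10, 3), (11, 1), (13, 3), (14, 3), (15, 3), (16, 2), (17, 3), (18, 3), (19, 1), (20, 3), (21, 2), (22, 2), (23, 1), (24, 2), (25, 2), (26, 1), (27, 3), (28, 3), (29, 2), (30, 3), (31, 1), (33, 1), (34, 3), (36, 1), (38, 3), (39, 2), (40, 1), (41, 3), (43, 2), (45, 3), (46, 3), (47, 2), (48, 3), (51, 3), (52, 1), (53, 2), (54, 3), (56, 1), (57, 2), (58, 1), (59, 3), (62, 1), (64, 2), (65, 2), (68, 1), (69, 1), (70, 3), (71, 3), (72, 2), (73, 3), (75, 3), (76, 2), (77, 2), (78, 3), (79, 2), (80, 1), (81, 2), (82, 3), (83, 2), (84, 2), (87, 1), (88, 1), (89, 2), (90, 2), (91, 1), (92, 1), (93, 2), (98, 2), (101, 2), (108, 2), (109, 2), (110, 2)],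
    [(0, 2), (4, 2), (6, 2), (7, 2), (8, 2), (9, 1), (11, 1), (12, 3), (13, 3), (14, 3), (15, 2), (16, 2), (17, 2), (18, 3), (19, 3), (20, 2), (21, 3), (22, 3), (23, 2), (25, 2), (26, 2), (27, 2), (28, 1), (29, 3), (30, 1), (32, 2), (33, 2), (34, 2), (35, 3), (37, 2), (39, 2), (40, 3), (41, 1), (43, 2), (44, 3), (45, 3), (47, 1), (48, 3), (49, 3), (50, 3), (51, 2), (53, 1), (54, 3), (56, 3), (58, 2), (59, 3), (60, 2), (61, 2), (63, 2), (64, 2), (65, 1), (66, 3), (67, 3), (68, 1), (69, 1), (70, 1), (71, 3), (72, 1), (73, 3), (74, 1), (76, 1), (77, 1), (78, 1), (79, 3), (80, 1), (81, 2), (82, 1), (83, 2), (84, 1), (85, 2), (86, 1), (88, 2), (89, 2), (91, 3), (92, 3), (93, 2), (98, 2), (101, 2)],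
    [(0, 1), (1, 3), (2, 3), (3, 1), (4, 3), (5, 1), (6, 1), (7, 3), (8, 1), (10, 3), (11, 2), (12, 2), (13, 3), (14, 2), (15, 2), (16, 3), (18, 3), (19, 2), (20, 1), (22, 2), (24, 3), (25, 1), (26, 3), (27, 2), (28, 1), (29, 3), (30, 2), (31, 1), (33, 1), (34, 1), (35, 1), (37, 1), (39, 2), (40, 3), (41, 1), (42, 3), (43, 2), (44, 3), (47, 1), (48, 1), (51, 2), (52, 2), (53, 3), (54, 3), (56, 1), (58, 3), (60, 2), (62, 3), (63, 2), (65, 2), (66, 1), (67, 1), (68, 2), (70, 1), (71, 3), (72, 1), (73, 1), (74, 1), (75, 1), (76, 1), (77, 2), (78, 1), (79, 3), (80, 3), (81, 2), (82, 2), (84, 2), (86, 2), (87, 1), (88, 3), (90, 3), (91, 2), (92, 2)]]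

/-- Part 8 of combinations. -/
def zcombC8 : List (List (ℕ × ℕ)) :=
  [[(0, 1), (1, 2), (2, 2), (3, 2), (4, 3), (5, 2), (6, 2), (7, 3), (8, 2), (10, 3), (11, 2), (12, 1), (13, 1), (14, 2), (16, 2), (19, 2), (20, 3), (21, 3), (22, 1), (23, 1), (25, 2), (26, 3), (27, 1), (28, 2), (30, 2), (31, 1), (32, 3), (33, 3), (34, 1), (35, 3), (36, 2), (37, 1), (38, 3), (41, 2), (42, 1), (44, 2), (45, 1), (46, 2), (48, 2), (50, 1), (51, 3), (52, 1), (53, 1), (54, 1), (55, 3), (56, 3), (58, 1), (59, 3), (60, 1), (63, 3), (65, 2), (67, 2), (69, 1), (70, 3), (71, 3), (74, 1), (75, 2), (76, 1), (77, 2), (78, 1), (81, 1), (82, 1), (83, 3), (84, 1), (85, 3), (87, 1), (88, 3), (91, 1), (92, 1)],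
    [(0, 2), (1, 2), (2, 2), (3, 2), (4, 2), (5, 2), (6, 2), (7, 2), (8, 2), (9, 2), (10, 1), (11, 2), (12, 2), (13, 2), (14, 2), (16, 2), (18, 3), (19, 2), (20, 1), (21, 1), (22, 2), (23, 2), (24, 2), (26, 3), (27, 1), (28, 3), (29, 2), (30, 2), (31, 1), (32, 3), (33, 1), (34, 3), (38, 3), (39, 3), (40, 1), (41, 3), (42, 1), (44, 2), (45, 3), (47, 2), (48, 1), (49, 2), (51, 1), (52, 1), (53, 3), (54, 1), (55, 2), (56, 2), (57, 2), (59, 3), (60, 1), (61, 1), (62, 1), (63, 1), (65, 1), (66, 2), (68, 2), (69, 2), (71, 3), (72, 3), (73, 1), (74, 3), (75, 1), (79, 2), (80, 3), (81, 1), (82, 3), (85, 1), (86, 3), (89, 3), (90, 2), (92, 1)],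
    [(1, 1), (2, 1), (3, 1), (5, 1), (6, 3), (8, 3), (9, 2), (10, 1), (12, 2), (13, 2), (14, 2), (15, 1), (16, 1), (17, 3), (18, 3), (20, 3), (21, 2), (22, 2), (23, 2), (24, 2), (25, 2), (26, 1), (27, 1), (28, 1), (30, 3), (31, 2), (32, 3), (33, 3), (34, 2), (35, 3), (38, 1), (40, 3), (41, 1), (42, 1), (43, 3), (44, 3), (45, 1), (46, 2), (47, 2), (48, 3), (49, 3), (51, 3), (52, 2), (53, 1), (54, 2), (55, 2), (58, 1), (59, 1), (60, 3), (61, 2), (62, 1), (63, 2), (64, 2), (67, 3), (68, 2), (69, 3), (70, 1), (71, 2), (72, 3), (73, 3), (74, 2), (76, 1), (77, 3), (78, 1), (79, 1), (80, 1), (81, 1), (82, 3), (83, 2), (84, 2), (85, 3), (86, 2), (87, 1), (89, 1), (90, 1), (91, 3), (93, 2), (98, 2), (101, 2)],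
    [(0, 1), (1, 1), (2, 1), (3, 1), (4, 3), (5, 1), (6, 3), (7, 3), (8, 3), (9, 3), (10, 1), (11, 2), (12, 1), (13, 1), (16, 1), (17, 3), (18, 3), (19, 1), (20, 1), (21, 3), (22, 1), (23, 3), (24, 1), (26, 1), (27, 1), (28, 3), (29, 3), (31, 2), (32, 2), (33, 3), (35, 3), (37, 2), (38, 2), (39, 3), (41, 1), (44, 2), (45, 3), (46, 2), (47, 1), (48, 3), (49, 2), (50, 1), (51, 2), (52, 1), (53, 2), (54, 3), (56, 1), (58, 1), (59, 1), (60, 3), (61, 2), (62, 1), (63, 1), (64, 1), (68, 3), (70, 2), (72, 2), (74, 1), (75, 3), (76, 3), (78, 1), (79, 1), (81, 2), (82, 1), (83, 2), (84, 2), (85, 2), (86, 1), (88, 3), (90, 3), (91, 1), (92, 2)],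
    [(0, 2), (1, 2), (2, 2), (3, 2), (4, 2), (5, 2), (6, 2), (7, 2), (8, 2), (9, 2), (10, 3), (11, 2), (12, 2), (13, 2), (14, 2), (16, 2), (18, 1), (19, 2), (20, 3), (22, 2), (23, 2), (24, 2), (26, 1), (27, 3), (28, 1), (29, 2), (30, 2), (31, 3), (32, 1), (33, 3), (34, 1), (38, 1), (39, 1), (40, 3), (41, 1), (42, 3), (44, 2), (45, 1), (47, 2), (48, 3), (49, 2), (51, 3), (52, 3), (53, 1), (54, 3), (55, 2), (56, 2), (57, 2), (59, 1), (60, 3), (61, 3), (62, 3), (63, 3), (65, 3), (66, 2), (68, 2), (69, 2), (71, 1), (72, 1), (73, 3), (74, 1), (75, 3), (79, 2), (80, 1), (81, 3), (82, 1), (85, 3), (86, 1), (89, 1), (90, 2), (92, 3)],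
    [(0, 1), (1, 2), (2, 2), (3, 2), (7, 3), (9, 1), (11, 3), (13, 3), (14, 3), (15, 1), (16, 2), (17, 3), (20, 3), (21, 1), (22, 3), (23, 2), (24, 1), (25, 3), (26, 3), (27, 2), (29, 2), (30, 2), (31, 3), (32, 3), (34, 3), (35, 2), (36, 2), (37, 3), (38, 2), (41, 1), (42, 3), (43, 1), (44, 1), (46, 3), (48, 1), (49, 1), (50, 3), (52, 2), (53, 3), (55, 2), (57, 3), (59, 1), (60, 1), (63, 2), (65, 1), (67, 3), (68, 3), (70, 2), (71, 2), (72, 1), (74, 3), (75, 3), (76, 3), (81, 3), (82, 2), (83, 3), (84, 3), (85, 3), (86, 1), (87, 2), (88, 2), (90, 2), (91, 3), (92, 3), (93, 3), (94, 3), (95, 1), (96, 3), (97, 3), (98, 1), (99, 1), (100, 1), (101, 3), (102, 1), (103, 1), (104, 2), (105, 1), (106, 2), (107, 3)],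
    [(1, 2), (2, 2), (4, 1), (5, 2), (6, 2), (8, 2), (9, 3), (10, 2), (11, 1), (12, 3), (14, 3), (15, 3), (18, 2), (20, 3), (21, 3), (23, 2), (24, 3), (26, 1), (27, 2), (28, 1), (29, 2), (30, 2), (31, 3), (32, 1), (33, 2), (34, 2), (35, 3), (36, 3), (38, 2), (39, 3), (40, 1), (41, 3), (42, 1), (43, 1), (44, 1), (45, 2), (46, 2), (47, 2), (48, 1), (50, 1), (51, 3), (54, 2), (56, 1), (57, 2), (58, 3), (62, 2), (63, 1), (64, 3), (65, 2), (66, 1), (69, 1), (70, 1), (71, 2), (73, 2), (75, 1), (76, 2), (77, 1), (78, 2), (79, 3), (80, 2), (82, 1), (83, 1), (85, 1), (86, 1), (87, 3), (89, 3), (90, 2), (91, 3), (92, 2), (93, 3), (94, 3), (95, 1), (96, 3), (97, 3), (98, 1), (99, 1), (100, 1), (101, 3), (102, 1), (103, 1), (104, 2), (105, 1), (106, 2), (107, 3), (108, 2), (109, 2), (110, 2)],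
    [(0, 3), (1, 1), (2, 1), (3, 3), (4, 1), (5, 3), (6, 3), (7, 1), (8, 3), (9, 1), (11, 1), (12, 3), (14, 3), (16, 1), (18, 1), (19, 1), (20, 2), (21, 2), (22, 1), (23, 3), (24, 1), (25, 1), (26, 2), (28, 1), (32, 2), (35, 2), (36, 1), (37, 2), (38, 2), (39, 2), (40, 1), (42, 2), (43, 3), (44, 1), (45, 1), (46, 1), (48, 3), (49, 1), (51, 3), (52, 3), (53, 2), (54, 3), (55, 2), (58, 2), (59, 2), (60, 2), (61, 1), (62, 3), (63, 3), (64, 1), (65, 2), (66, 1), (68, 1), (69, 1), (71, 2), (72, 1), (73, 2), (75, 1), (77, 3), (78, 2), (79, 3), (80, 2), (81, 1), (82, 3), (83, 2), (84, 2), (85, 3), (86, 3), (87, 3), (88, 1), (89, 1), (90, 3), (91, 1), (92, 2), (93, 2), (98, 2), (101, 2), (108, 2), (109, 2), (110, 2)]]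

/-- Part 9 of combinations. -/
def zcombC9 : List (List (ℕ × ℕ)) :=
  [[(0, 2), (3, 2), (4, 2), (5, 2), (7, 2), (10, 1), (11, 3), (12, 2), (13, 1), (14, 1), (15, 1), (16, 1), (17, 2), (18, 3), (19, 2), (20, 1), (24, 2), (26, 2), (29, 2), (31, 3), (32, 2), (34, 2), (35, 2), (36, 2), (37, 2), (38, 3), (39, 3), (40, 2), (41, 1), (42, 2), (43, 2), (45, 3), (46, 3), (47, 2), (48, 1), (49, 3), (51, 2), (52, 3), (53, 2), (54, 1), (55, 2), (56, 3), (57, 2), (58, 1), (59, 1), (60, 2), (61, 3), (62, 3), (63, 3), (64, 1), (65, 2), (66, 2), (67, 3), (68, 3), (69, 3), (70, 1), (71, 2), (72, 1), (73, 1), (74, 2), (75, 3), (76, 3), (77, 3), (79, 2), (80, 3), (83, 3), (85, 3), (87, 3), (89, 2), (91, 2), (92, 1), (93, 2), (98, 2), (101, 2)],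
    [(0, 1), (1, 1), (2, 1), (3, 3), (4, 3), (5, 1), (6, 3), (7, 3), (8, 3), (9, 1), (12, 2), (13, 2), (14, 2), (16, 3), (17, 3), (18, 1), (19, 1), (20, 2), (21, 2), (23, 3), (24, 2), (25, 3), (28, 2), (29, 2), (32, 3), (33, 3), (34, 2), (35, 2), (36, 2), (39, 1), (40, 1), (41, 1), (43, 3), (44, 3), (45, 1), (46, 2), (47, 1), (48, 1), (49, 2), (50, 2), (52, 3), (54, 2), (55, 1), (56, 1), (57, 3), (58, 2), (60, 1), (62, 1), (63, 1), (66, 3), (67, 3), (68, 1), (69, 1), (70, 3), (71, 1), (72, 3), (73, 3), (74, 1), (77, 2), (78, 1), (79, 3), (80, 1), (81, 2), (82, 3), (83, 2), (84, 2), (85, 1), (86, 1), (87, 3)],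
    [(48, 1)],
    [(0, 2), (1, 2), (2, 2), (4, 2), (5, 2), (6, 2), (7, 2), (8, 2), (9, 2), (10, 3), (11, 3), (12, 1), (13, 1), (16, 3), (18, 1), (19, 2), (20, 3), (21, 1), (22, 3), (23, 1), (24, 1), (25, 1), (27, 3), (28, 1), (29, 3), (30, 1), (31, 2), (32, 3), (33, 2), (34, 3), (35, 2), (36, 3), (38, 1), (39, 2), (43, 3), (44, 1), (45, 2), (47, 1), (48, 1), (49, 1), (50, 1), (51, 1), (52, 2), (53, 2), (54, 1), (56, 2), (57, 1), (58, 1), (59, 2), (60, 2), (61, 1), (62, 3), (64, 1), (65, 1), (66, 1), (68, 1), (69, 1), (70, 1), (71, 3), (72, 1), (73, 1), (75, 1), (76, 2), (80, 3), (81, 2), (83, 2), (84, 3), (85, 3), (86, 1), (87, 1), (91, 1)],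
    [(5, 2), (6, 2), (8, 2), (9, 1), (10, 1), (11, 1), (13, 2), (14, 2), (18, 2), (19, 3), (20, 3), (21, 2), (22, 2), (23, 2), (24, 2), (25, 2), (29, 2), (33, 2), (34, 3), (35, 1), (36, 3), (40, 3), (41, 2), (42, 3), (43, 2), (46, 2), (50, 3), (51, 2), (53, 3), (55, 1), (56, 1), (57, 2), (59, 2), (60, 2), (61, 3), (65, 1), (66, 1), (68, 2), (69, 3), (71, 1), (72, 1), (73, 3), (74, 1), (75, 3), (77, 2), (78, 2), (79, 2), (80, 1), (81, 1), (82, 2), (83, 2), (84, 2), (85, 2), (87, 3), (88, 3), (89, 3), (90, 1), (91, 1)],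
    [(0, 1), (1, 3), (2, 3), (3, 1), (4, 3), (5, 1), (6, 3), (7, 3), (8, 3), (9, 2), (11, 3), (14, 2), (15, 1), (16, 2), (17, 2), (18, 1), (20, 2), (21, 1), (23, 3), (26, 1), (27, 2), (28, 2), (29, 3), (30, 2), (31, 2), (32, 2), (33, 3), (34, 3), (35, 2), (37, 3), (38, 1), (39, 2), (40, 1), (41, 2), (42, 1), (43, 2), (44, 3), (45, 1), (46, 3), (47, 3), (49, 1), (50, 3), (51, 2), (52, 2), (53, 1), (54, 1), (55, 1), (56, 2), (57, 3), (58, 1), (59, 3), (62, 1), (63, 1), (64, 3), (65, 2), (66, 1), (67, 2), (68, 1), (69, 1), (71, 1), (72, 1), (73, 1), (74, 1), (75, 3), (77, 2), (78, 1), (79, 3), (80, 3), (83, 1), (84, 1), (85, 1), (86, 1), (88, 2), (92, 2), (93, 2), (98, 2), (101, 2), (108, 2), (109, 2), (110, 2)],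
    [(0, 2), (1, 2), (2, 2), (4, 2), (5, 2), (6, 2), (7, 2), (8, 2), (9, 2), (11, 2), (12, 1), (13, 1), (14, 1), (15, 2), (17, 1), (18, 1), (21, 3), (22, 3), (23, 3), (26, 3), (27, 2), (28, 1), (29, 1), (30, 2), (31, 1), (33, 1), (34, 1), (35, 2), (36, 1), (37, 2), (38, 1), (40, 2), (41, 1), (43, 3), (44, 3), (45, 3), (46, 3), (48, 1), (50, 1), (52, 2), (55, 1), (56, 3), (58, 2), (60, 3), (62, 2), (64, 3), (65, 3), (66, 3), (67, 3), (68, 3), (70, 3), (71, 2), (73, 3), (74, 2), (75, 2), (76, 1), (78, 3), (80, 1), (81, 2), (82, 1), (83, 3), (84, 2), (85, 3), (86, 3), (87, 3), (88, 3), (89, 2), (90, 2), (91, 3)],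
    [(1, 2), (2, 2), (5, 2), (9, 1), (11, 3), (13, 1), (14, 1), (15, 1), (19, 1), (21, 2), (23, 3), (24, 3), (25, 2), (27, 2), (30, 1), (31, 3), (32, 2), (37, 1), (38, 3), (41, 2), (42, 2), (43, 2), (44, 3), (45, 1), (48, 3), (49, 1), (50, 3), (53, 2), (55, 3), (56, 3), (57, 1), (60, 3), (61, 3), (63, 1), (64, 1), (66, 3), (67, 1), (68, 2), (71, 2), (72, 2), (73, 3), (74, 2), (75, 1), (76, 1), (78, 3), (79, 1), (80, 1), (81, 3), (82, 1), (83, 2), (84, 2), (85, 2), (86, 2), (87, 2), (88, 3), (90, 2), (92, 1)]]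

/-- Part 10 of combinations. -/
def zcombC10 : List (List (ℕ × ℕ)) :=
  [[(0, 1), (1, 3), (2, 3), (3, 3), (4, 3), (5, 3), (6, 1), (7, 3), (8, 1), (10, 3), (11, 2), (15, 1), (16, 1), (17, 1), (18, 2), (20, 3), (21, 1), (22, 2), (23, 3), (24, 3), (25, 3), (26, 2), (27, 1), (28, 2), (29, 1), (30, 3), (31, 1), (32, 3), (35, 1), (36, 2), (37, 3), (38, 2), (39, 2), (40, 3), (41, 2), (42, 3), (43, 2), (44, 1), (45, 2), (46, 2), (47, 3), (48, 2), (49, 1), (50, 1), (52, 3), (53, 1), (55, 3), (59, 2), (61, 2), (63, 1), (64, 1), (65, 1), (67, 2), (69, 1), (70, 2), (71, 2), (74, 2), (75, 1), (77, 2), (79, 3), (81, 3), (82, 1), (83, 2), (85, 3), (87, 3), (88, 3), (89, 1), (90, 3), (93, 2), (98, 2), (101, 2)],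
    [(0, 2), (4, 2), (7, 2), (10, 1), (12, 2), (16, 2), (18, 2), (19, 2), (20, 3), (21, 1), (23, 1), (24, 1), (25, 1), (26, 3), (27, 3), (28, 1), (29, 3), (31, 2), (32, 1), (33, 2), (34, 2), (36, 2), (37, 1), (38, 3), (39, 2), (40, 3), (42, 3), (43, 1), (44, 2), (45, 2), (46, 3), (47, 3), (48, 2), (49, 3), (50, 2), (51, 1), (52, 1), (54, 2), (55, 3), (56, 3), (57, 1), (58, 3), (60, 1), (61, 3), (62, 3), (63, 3), (64, 2), (65, 3), (66, 1), (68, 3), (69, 3), (70, 2), (71, 2), (72, 3), (73, 3), (76, 1), (77, 1), (79, 3), (80, 1), (81, 3), (83, 2), (84, 2), (85, 1), (86, 2), (88, 2), (89, 2), (90, 2), (91, 3), (92, 2)],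
    [(0, 2), (4, 2), (7, 2), (12, 2), (13, 2), (14, 1), (17, 1), (18, 1), (21, 2), (25, 1), (26, 1), (28, 2), (29, 2), (31, 2), (33, 2), (35, 2), (36, 2), (37, 2), (38, 2), (40, 2), (41, 2), (43, 2), (45, 2), (46, 2), (50, 2), (51, 2), (52, 2), (54, 3), (56, 2), (57, 3), (58, 1), (59, 2), (62, 2), (63, 2), (64, 2), (68, 2), (70, 2), (71, 2), (73, 2), (75, 3), (76, 2), (77, 2), (80, 2), (85, 2), (87, 2), (88, 2), (89, 2)],
    [(5, 2), (6, 2), (8, 2), (9, 1), (10, 3), (11, 1), (12, 2), (13, 2), (14, 1), (15, 2), (17, 1), (18, 1), (19, 3), (20, 1), (22, 2), (24, 2), (25, 1), (26, 1), (32, 2), (34, 3), (35, 1), (36, 1), (37, 2), (38, 2), (39, 2), (40, 3), (42, 3), (43, 2), (44, 2), (45, 2), (46, 2), (48, 3), (49, 2), (50, 1), (52, 2), (53, 3), (54, 1), (55, 1), (56, 3), (57, 3), (58, 3), (61, 1), (63, 2), (64, 2), (65, 3), (66, 3), (68, 2), (69, 2), (70, 2), (71,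 3), (72, 3), (73, 1), (74, 2), (78, 2), (80, 3), (81, 1), (82, 2), (83, 2), (85, 2), (87, 1), (88, 1), (89, 1), (90, 3), (91, 3), (92, 2)],
    [(1, 2), (2, 2), (3, 2), (5, 2), (9, 1), (10, 3), (11, 2), (12, 1), (13, 2), (14, 1), (15, 3), (16, 3), (18, 2), (19, 1), (20, 1), (22, 1), (23, 2), (24, 1), (25, 1), (27, 1), (29, 1), (30, 2), (31, 1), (32, 3), (33, 2), (34, 1), (35, 1), (36, 3), (38, 3), (40, 2), (41, 2), (43, 3), (44, 2), (45, 1), (46, 1), (47, 1), (48, 1), (49, 2), (50, 1), (52, 2), (53, 2), (54, 1), (57, 1), (58, 3), (60, 2), (62, 1), (63, 3), (64, 3), (65, 1), (66, 2), (67, 2), (70, 1), (71, 1), (73, 1), (75, 1), (76, 2), (77, 3), (78, 3), (79, 2), (80, 3), (82, 3), (83, 2), (84, 3), (85, 2), (88, 2), (89, 3), (90, 2), (92, 2)],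
    [(1, 3), (2, 3), (3, 1), (5, 3), (6, 3), (8, 3), (9, 3), (10, 1), (11, 2), (12, 2), (13, 1), (14, 1), (16, 2), (17, 1), (19, 3), (20, 1), (21, 1), (22, 2), (23, 3), (24, 2), (25, 3), (27, 3), (28, 1), (29, 1), (30, 3), (31, 2), (32, 3), (33, 2), (34, 3), (35, 1), (36, 1), (37, 1), (39, 2), (41, 1), (42, 3), (43, 2), (44, 1), (45, 1), (47, 1), (49, 3), (51, 3), (52, 1), (53, 1), (57, 2), (58, 3), (60, 1), (61, 1), (62, 2), (63, 1), (64, 3), (66, 1), (67, 1), (68, 2), (69, 2), (70, 2), (71, 3), (72, 2), (74, 1), (75, 3), (76, 3), (77, 3), (78, 1), (79, 3), (82, 3), (83, 2), (84, 1), (85, 3), (87, 1), (88, 3), (89, 1), (92, 3)],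
    [(0, 3), (1, 3), (2, 3), (3, 3), (4, 1), (5, 3), (6, 3), (7, 1), (8, 3), (11, 3), (13, 1), (14, 1), (15, 3), (16, 3), (17, 3), (18, 1), (19, 2), (20, 2), (21, 2), (22, 2), (23, 1), (26, 1), (27, 2), (28, 2), (29, 1), (30, 2), (32, 2), (34, 3), (35, 1), (36, 2), (39, 1), (41, 3), (42, 2), (44, 2), (45, 3), (47, 3), (49, 3), (52, 2), (55, 1), (56, 1), (57, 3), (58, 2), (59, 3), (60, 1), (61, 2), (63, 2), (64, 2), (66, 2), (69, 1), (71, 1), (72, 1), (73, 3), (74, 2), (75, 1), (76, 2), (78, 2), (79, 3), (80, 1), (81, 1), (82, 1), (85, 1), (86, 2), (88, 3), (89, 2), (90, 3), (91, 3), (92, 1)],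
    [(0, 1), (1, 3), (2, 3), (3, 3), (4, 3), (5, 1), (6, 3), (7, 3), (8, 3), (9, 3), (10, 3), (12, 3), (13, 3), (14, 3), (15, 3), (16, 2), (18, 2), (19, 3), (20, 3), (22, 1), (23, 1), (24, 2), (26, 1), (27, 2), (28, 1), (29, 2), (30, 3), (31, 1), (32, 1), (33, 2), (34, 2), (35, 2), (38, 1), (39, 3), (40, 1), (41, 3), (42, 1), (43, 1), (44, 2), (46, 3), (47, 3), (48, 2), (49, 3), (50, 2), (51, 3), (52, 1), (53, 1), (54, 3), (56, 3), (58, 3), (61, 2), (63, 2), (65, 1), (67, 2), (68, 1), (69, 3), (71, 1), (72, 1), (74, 3), (75, 3), (76, 2), (77, 2), (79, 3), (81, 2), (83, 3), (84, 3), (85, 2), (86, 3), (87, 3), (88, 2), (89, 1), (90, 1), (91, 1), (92, 1)]]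

/-- Part 11 of combinations. -/
def zcombC11 : List (List (ℕ × ℕ)) :=
  [[(0, 1), (3, 2), (4, 3), (5, 2), (6, 2), (7, 3), (8, 2), (9, 2), (10, 1), (11, 1), (15, 1), (17, 2), (18, 3), (19, 2), (20, 3), (23, 3), (24, 1), (25, 1), (26, 2), (29, 2), (30, 2), (31, 3), (33, 3), (34, 1), (35, 2), (36, 3), (37, 3), (38, 3), (39, 2), (41, 1), (42, 2), (44, 3), (45, 3), (47, 3), (48, 3), (49, 1), (50, 2), (51, 2), (53, 1), (54, 3), (55, 2), (57, 2), (58, 3), (60, 2), (61, 1), (62, 3), (63, 2), (64, 1), (65, 3), (66, 1), (67, 3), (69, 1), (70, 1), (71, 3), (72, 1), (73, 3), (75, 2), (77, 1), (78, 1), (79, 1), (80, 1), (81, 3), (82, 3), (83, 3), (84, 3), (85, 1), (87, 2), (88, 1), (89, 3), (90, 2), (91, 3), (92, 2)],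
    [(0, 3), (1, 2), (2, 2), (4, 1), (5, 2), (7, 1), (9, 1), (11, 2), (12, 3), (15, 3), (16, 3), (17, 1), (18, 3), (19, 3), (22, 3), (23, 3), (24, 1), (26, 3), (29, 1), (30, 1), (31, 2), (32, 3), (33, 1), (35, 2), (36, 1), (37, 2), (38, 1), (40, 3), (41, 1), (42, 3), (43, 3), (44, 3), (47, 2), (48, 2), (49, 2), (51, 1), (52, 2), (54, 2), (55, 2), (56, 1), (57, 2), (59, 1), (61, 2), (63, 1), (64, 3), (65, 2), (66, 1), (67, 3), (68, 2), (69, 3), (71, 3), (72, 1), (73, 1), (74, 1), (75, 3), (76, 1), (78, 1), (79, 3), (80, 3), (81, 1), (82, 1), (83, 3), (84, 1), (85, 2), (86, 2), (87, 2), (88, 1), (89, 3), (90, 2), (91, 1)],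
    [(0, 3), (1, 2), (2, 2), (4, 1), (6, 2), (7, 1), (8, 2), (11, 3), (12, 1), (13, 2), (14, 3), (15, 3), (16, 3), (17, 2), (18, 3), (20, 2), (22, 3), (24, 3), (25, 1), (27, 1), (28, 3), (29, 3), (30, 1), (31, 3), (33, 2), (35, 1), (36, 2), (38, 3), (39, 1), (41, 1), (43, 3), (45, 3), (46, 2), (48, 1), (49, 2), (51, 1), (52, 2), (53, 3), (54, 3), (55, 2), (56, 3), (57, 1), (58, 2), (59, 3), (60, 3), (61, 3), (62, 3), (63, 1), (64, 3), (65, 1), (66, 2), (68, 1), (69, 2), (70, 3), (71, 2), (72, 2), (73, 2), (74, 3), (76, 2), (77, 3), (79, 1), (80, 2), (82, 2), (83, 2), (88, 3), (90, 2), (91, 1), (92, 3), (93, 2), (98, 2), (101, 2)],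
    [(0, 2), (1, 1), (2, 1), (3, 1), (4, 2), (5, 1), (6, 3), (7, 2), (8, 3), (9, 2), (11, 1), (13, 2), (15, 3), (17, 3), (18, 1), (19, 2), (21, 2), (22, 2), (23, 2), (25, 1), (28, 2), (29, 3), (30, 3), (32, 1), (33, 3), (34, 3), (35, 2), (36, 2), (38, 3), (39, 3), (40, 1), (41, 3), (42, 1), (43, 2), (45, 1), (47, 3), (48, 3), (49, 1), (50, 2), (52, 3), (56, 1), (57, 2), (58, 2), (60, 2), (61, 2), (62, 1), (64, 3), (65, 2), (66, 1), (68, 3), (69, 1), (70, 1), (72, 1), (73, 1), (75, 1), (76, 3), (78, 1), (79, 1), (80, 3), (81, 1), (83, 3), (84, 2), (85, 2), (86, 2), (87, 2), (88, 1), (90, 2), (92, 1)],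
    [(1, 2), (2, 2), (5, 2), (6, 2), (8, 2), (9, 2), (10, 3), (11, 3), (12, 3), (13, 3), (14, 1), (15, 2), (16, 3), (17, 3), (18, 1), (20, 3), (22, 3), (23, 2), (25, 1), (27, 1), (28, 1), (29, 2), (30, 3), (31, 1), (32, 1), (33, 1), (34, 2), (35, 2), (36, 3), (38, 1), (40, 2), (44, 3), (45, 1), (46, 2), (47, 1), (48, 2), (50, 3), (52, 2), (53, 3), (54, 1), (55, 1), (56, 1), (58, 2), (59, 3), (60, 1), (63, 1), (64, 1), (65, 3), (66, 2), (69, 3), (70, 3), (71, 2), (72, 2), (73, 1), (74, 1), (76, 1), (77, 1), (78, 2), (79, 1), (80, 3), (81, 2), (82, 1), (84, 1), (85, 1), (86, 2), (87, 3), (89, 3), (92, 3)],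
    [(1, 2), (2, 2), (3, 2), (9, 3), (10, 3), (11, 1), (13, 2), (15, 2), (17, 2), (18, 2), (19, 1), (20, 1), (22, 2), (23, 2), (24, 2), (25, 3), (26, 3), (28, 3), (29, 2), (31, 2), (33, 2), (34, 3), (35, 3), (36, 3), (37, 2), (38, 2), (39, 2), (40, 3), (41, 2), (42, 1), (46, 2), (48, 3), (50, 3), (53, 3), (54, 1), (55, 3), (56, 3), (57, 3), (58, 2), (59, 2), (63, 2), (65, 1), (66, 1), (67, 2), (68, 2), (71, 1), (73, 3), (74, 2), (75, 3), (78, 2), (79, 2), (80, 1), (81, 3), (86, 2), (87, 1), (88, 3), (89, 1), (90, 3), (91, 3)],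
    [(0, 3), (1, 3), (2, 3), (3, 1), (4, 1), (5, 3), (6, 1), (7, 1), (8, 1), (9, 3), (10, 2), (12, 2), (13, 2), (14, 3), (15, 2), (16, 1), (17, 2), (18, 1), (19, 3), (20, 2), (23, 2), (24, 1), (25, 3), (26, 3), (27, 2), (28, 1), (32, 1), (33, 3), (34, 2), (35, 1), (36, 3), (38, 2), (40, 1), (41, 3), (42, 3), (43, 3), (44, 3), (45, 3), (46, 1), (47, 1), (48, 1), (50, 2), (51, 3), (52, 2), (53, 3), (54, 3), (55, 1), (56, 2), (58, 1), (59, 2), (60, 1), (61, 2), (62, 2), (64, 2), (65, 2), (66, 3), (67, 3), (68, 2), (69, 2), (70, 1), (71, 3), (72, 2), (73, 2), (75, 2), (76, 2), (78, 2), (79, 1), (80, 2), (81, 3), (82, 3), (83, 1), (85, 2), (86, 1), (87, 1), (88, 2), (89, 3), (90, 3), (92, 3)],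
    [(0, 2), (1, 2), (2, 2), (4, 2), (7, 2), (10, 3), (11, 3), (12, 2), (13, 2), (15, 1), (18, 1), (20, 1), (22, 2), (23, 2), (24, 1), (25, 3), (26, 2), (27, 2), (29, 3), (30, 3), (31, 2), (32, 1), (34, 2), (35, 3), (37, 1), (39, 3), (40, 1), (41, 3), (42, 1), (43, 1), (44, 1), (45, 2), (46, 2), (47, 1), (48, 2), (49, 1), (50, 2), (51, 2), (52, 1), (53, 1), (54, 2), (56, 1), (57, 2), (58, 3), (60, 2), (61, 2), (64, 3), (65, 3), (66, 3), (68, 3), (69, 3), (70, 3), (71, 1), (74, 1), (76, 3), (78, 2), (79, 3), (81, 1), (82, 3), (84, 2), (85, 1), (86, 2), (87, 2), (88, 3), (90, 1), (91, 3), (92, 2)]]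

/-- Part 12 of combinations. -/
def zcombC12 : List (List (ℕ × ℕ)) :=
  [[(6, 2), (8, 2), (9, 3), (10, 2), (11, 1), (12, 1), (13, 2), (14, 3), (15, 3), (16, 2), (17, 2), (19, 1), (20, 2), (21, 2), (22, 1), (24, 3), (25, 3), (27, 2), (28, 3), (31, 3), (32, 3), (34, 3), (36, 3), (38, 2), (41, 3), (43, 2), (44, 2), (45, 3), (47, 2), (49, 1), (50, 1), (51, 1), (52, 2), (53, 3), (54, 1), (56, 3), (58, 3), (59, 2), (61, 3), (62, 3), (64, 1), (65, 3), (67, 2), (68, 2), (69, 2), (70, 3), (71, 3), (72, 2), (73, 1), (74, 3), (75, 2), (76, 2), (77, 3), (78, 3), (79, 3), (80, 3), (81, 1), (82, 2), (83, 2), (84, 1), (86, 2), (88, 2), (89, 1), (90, 3), (91, 2)],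
    [(0, 3), (1, 2), (2, 2), (3, 2), (4, 1), (7, 1), (9, 3), (10, 3), (11, 3), (12, 2), (13, 2), (15, 2), (17, 2), (18, 1), (19, 3), (20, 1), (21, 2), (22, 2), (23, 1), (24, 3), (31, 2), (32, 2), (34, 1), (36, 1), (37, 1), (39, 1), (40, 1), (41, 1), (42, 3), (45, 2), (46, 3), (48, 1), (49, 3), (51, 2), (53, 1), (54, 2), (56, 3), (57, 3), (58, 1), (61, 3), (62, 1), (64, 2), (66, 3), (67, 2), (68, 1), (69, 3), (70, 2), (71, 3), (73, 2), (74, 1), (75, 2), (76, 3), (77, 1), (78, 2), (79, 3), (80, 2), (81, 1), (82, 1), (83, 1), (87, 3), (88, 3), (89, 2), (90, 1), (91, 3), (92, 2)],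
    [(0, 3), (1, 3), (2, 3), (3, 1), (4, 1), (5, 1), (6, 1), (7, 1), (8, 1), (10, 2), (12, 1), (14, 3), (16, 1), (17, 1), (18, 2), (20, 2), (22, 3), (23, 2), (24, 2), (25, 2), (26, 2), (27, 1), (28, 2), (29, 2), (30, 2), (31, 1), (32, 3), (33, 3), (34, 3), (35, 1), (36, 1), (37, 3), (38, 3), (40, 1), (41, 3), (43, 1), (44, 1), (46, 1), (47, 2), (49, 3), (50, 3), (51, 2), (52, 1), (53, 1), (54, 3), (56, 2), (57, 2), (58, 3), (59, 1), (60, 1), (61, 3), (62, 2), (63, 1), (64, 1), (65, 2), (67, 3), (69, 3), (70, 3), (72, 1), (73, 3), (75, 2), (76, 2), (77, 2), (78, 2), (79, 3), (80, 1), (81, 1), (82, 1), (85, 2), (87, 3), (88, 2), (89, 2), (91, 2), (92, 3)],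
    [(0, 1), (1, 3), (2, 3), (3, 1), (4, 3), (5, 1), (6, 3), (7, 3), (8, 3), (9, 2), (10, 3), (11, 1), (12, 1), (13, 3), (16, 1), (17, 3), (18, 3), (19, 2), (20, 3), (21, 1), (22, 3), (23, 2), (25, 2), (26, 2), (28, 2), (29, 3), (30, 3), (31, 3), (32, 2), (35, 1), (36, 1), (37, 2), (38, 1), (39, 2), (40, 3), (41, 1), (42, 2), (43, 2), (44, 1), (45, 2), (46, 1), (47, 2), (48, 2), (49, 1), (50, 2), (51, 1), (53, 3), (54, 2), (55, 1), (56, 2), (57, 2), (59, 2), (62, 3), (63, 1), (64, 2), (66, 1), (67, 1), (68, 2), (69, 1), (70, 1), (71, 1), (73, 1), (74, 3), (75, 3), (76, 1), (77, 3), (78, 1), (79, 2), (80, 3), (81, 1), (82, 2), (83, 2), (85, 2), (87, 1), (88, 3), (90, 3), (91, 1), (92, 1)],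
    [(1, 2), (2, 2), (6, 2), (8, 2), (9, 2), (10, 3), (11, 2), (12, 2), (13, 1), (14, 1), (15, 1), (17, 2), (20, 1), (21, 3), (22, 2), (23, 3), (24, 3), (25, 2), (28, 1), (29, 3), (30, 1), (32, 2), (33, 3), (34, 1), (35, 3), (38, 3), (39, 1), (40, 2), (41, 1), (43, 3), (44, 1), (45, 2), (46, 3), (47, 3), (48, 1), (49, 2), (50, 1), (51, 2), (52, 1), (54, 3), (55, 2), (56, 2), (57, 1), (58, 3), (59, 2), (60, 3), (61, 3), (62, 1), (63, 2), (64, 3), (68, 3), (69, 2), (70, 3), (71, 1), (72, 1), (73, 1), (74, 1), (75, 1), (76, 1), (78, 3), (79, 2), (80, 3), (81, 2), (82, 3), (83, 2), (84, 1), (85, 1), (86, 1), (87, 2), (88, 3), (89, 3), (90, 2), (91, 1), (92, 2)],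
    [(0, 3), (1, 1), (2, 1), (3, 3), (4, 1), (5, 3), (6, 3), (7, 1), (8, 3), (12, 3), (13, 2), (14, 3), (15, 2), (16, 3), (17, 1), (18, 2), (20, 2), (21, 2), (22, 3), (25, 1), (26, 3), (27, 1), (30, 2), (31, 3), (32, 3), (33, 3), (34, 3), (35, 3), (36, 1), (37, 3), (38, 1), (40, 3), (41, 3), (42, 3), (43, 3), (44, 3), (45, 2), (46, 1), (48, 2), (49, 1), (50, 1), (51, 2), (52, 1), (53, 1), (54, 2), (55, 2), (57, 3), (58, 2), (59, 1), (60, 2), (61, 1), (64, 1), (66, 2), (67, 1), (68, 2), (69, 1), (70, 1), (71, 3), (72, 3), (73, 3), (75, 3), (76, 2), (79, 1), (80, 1), (81, 1), (82, 3), (85, 2), (87, 3), (89, 2), (90, 2), (92, 3)],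
    [(0, 1), (1, 3), (2, 3), (3, 1), (4, 3), (5, 3), (6, 1), (7, 3), (8, 1), (10, 2), (11, 3), (12, 1), (13, 3), (14, 1), (15, 3), (16, 2), (17, 2), (18, 2), (22, 3), (23, 3), (24, 3), (26, 2), (28, 2), (29, 1), (32, 2), (33, 1), (37, 1), (38, 2), (39, 3), (40, 3), (41, 2), (42, 2), (44, 1), (45, 3), (46, 3), (47, 3), (48, 2), (50, 1), (53, 3), (54, 2), (55, 1), (56, 1), (57, 2), (58, 2), (59, 1), (60, 3), (61, 1), (63, 2), (64, 2), (66, 1), (68, 3), (69, 1), (70, 2), (71, 1), (73, 3), (74, 1), (76, 1), (78, 2), (79, 3), (80, 1), (82, 3), (83, 1), (84, 2), (85, 1), (86, 3), (87, 2), (88, 1), (89, 1), (90, 2), (92, 3)],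
    [(10, 1), (11, 1), (13, 2), (14, 1), (15, 2), (16, 1), (17, 3), (18, 2), (20, 3), (21, 2), (23, 3), (24, 3), (25, 3), (26, 3), (27, 1), (28, 3), (30, 1), (31, 3), (32, 1), (33, 1), (34, 1), (36, 2), (37, 3), (38, 3), (39, 2), (41, 1), (42, 3), (44, 2), (45, 3), (46, 1), (47, 3), (48, 3), (50, 2), (52, 2), (54, 1), (55, 3), (57, 1), (58, 2), (61, 1), (62, 3), (63, 1), (64, 1), (65, 2), (66, 3), (67, 2), (68, 1), (69, 2), (71, 3), (72, 1), (73, 3), (74, 2), (75, 2), (76, 2), (79, 3), (80, 1), (81, 2), (82, 2), (83, 3), (84, 2), (86, 2), (87, 3), (88, 3), (90, 2), (92, 1)]]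

/-- Part 13 of combinations. -/
def zcombC13 : List (List (ℕ × ℕ)) :=
  [[(0, 2), (1, 1), (2, 1), (3, 3), (4, 2), (5, 1), (6, 3), (7, 2), (8, 3), (9, 1), (11, 1), (12, 3), (13, 1), (14, 2), (15, 2), (16, 2), (17, 3), (18, 1), (19, 1), (21, 2), (22, 1), (24, 1), (25, 2), (29, 2), (30, 1), (32, 3), (33, 1), (34, 3), (35, 1), (36, 3), (37, 2), (38, 2), (39, 3), (42, 1), (43, 3), (44, 3), (45, 3), (47, 1), (49, 3), (50, 2), (51, 1), (52, 2), (53, 2), (54, 2), (55, 3), (56, 2), (57, 3), (58, 2), (59, 2), (60, 2), (61, 2), (62, 2), (64, 3), (65, 2), (66, 3), (67, 1), (68, 2), (71, 3), (73, 2), (74, 3), (75, 1), (77, 2), (78, 3), (79, 1), (80, 2), (81, 3), (82, 2), (83, 1), (84, 3), (85, 3), (87, 2), (88, 2), (89, 1), (90, 2), (92, 3)]]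

/-- The combinations. -/
def zcomb : List (List (ℕ × ℕ)) :=
  zcombC0 ++ zcombC1 ++ zcombC2 ++ zcombC3 ++ zcombC4 ++ zcombC5 ++ zcombC6 ++ zcombC7 ++ zcombC8 ++ zcombC9 ++ zcombC10 ++ zcombC11 ++ zcombC12 ++ zcombC13

/-- The generator. -/
def yv : List ℕ := [0, 0, 0, 0, 0, 0, 1, 0, 0, 0, 0, 0, 0, 0, 0, 0, 2, 0, 2, 2, 2, 2, 0, 0, 1, 0, 0, 0, 0, 0, 0, 0, 0, 0, 0, 0, 0, 0, 0, 0, 0, 0, 0, 0, 0, 0, 0, 0, 0, 0, 0, 0, 0, 0, 0, 0, 0, 0, 0, 0, 0, 0, 0, 0, 0, 0, 0, 0, 0, 0, 0, 0, 0, 0, 0, 0, 0, 0, 0, 0, 0, 0, 0, 0, 0, 0, 0, 0, 0, 0, 0, 0, 0, 0, 0, 0, 0, 0, 0, 0, 0, 0, 0, 0, 0]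

/-- Its coefficients. -/
def mv : List ℕ := [0, 0, 0, 0, 0, 0, 1, 1, 0, 0, 0, 0, 0, 0, 0, 0, 0, 0, 0, 0, 0, 0, 1, 0, 0, 0, 0, 0, 1, 1, 0, 0, 1, 0, 1, 0, 0, 0, 0, 0, 0, 0, 1, 1, 0, 1, 0, 0, 0, 0, 0, 0, 1, 1, 0, 0, 0, 0, 0, 0, 1, 1, 1, 0, 0, 0, 0, 0, 0, 1, 1, 0, 0, 0, 0, 0, 0, 0, 0, 0, 0, 0, 0, 0, 0, 0, 0, 0, 0, 0, 0, 0, 0, 0, 0, 0, 0, 0, 0, 0, 0, 0, 0, 0, 0]

/-- Its combination. -/
def ycomb : List (ℕ × ℕ) := [(0, 2), (1, 2), (2, 2), (7, 2), (9, 1), (10, 1), (11, 1), (12, 1), (13, 3), (14, 3), (15, 2), (16, 2), (17, 1), (18, 3), (19, 3), (20, 1), (21, 1), (22, 1), (23, 1), (25, 1), (28, 3), (29, 1), (30, 2), (31, 1), (32, 2), (33, 3), (35, 3), (38, 1), (40, 3), (41, 1), (42, 3), (43, 1), (44, 1), (45, 3), (46, 3), (50, 2), (51, 2), (52, 2), (53, 1), (54, 1), (56, 2), (57, 1), (59, 2), (60, 3), (61, 3), (62, 2), (63, 2), (64, 3), (66, 2), (67, 1), (68, 1), (70,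 1), (71, 1), (72, 3), (74, 2), (75, 1), (76, 1), (78, 3), (79, 2), (81, 1), (82, 3), (83, 1), (85, 1), (86, 3), (89, 1), (90, 1), (91, 2), (93, 2), (94, 2), (95, 2), (96, 2), (97, 2), (98, 2), (99, 2), (100, 2), (101, 2), (102, 2), (103, 2), (105, 2), (107, 2)]

/-- Part 0 of base images of the first halves. -/
def keysAC0 : List (List ℕ) :=
  [[0, 1126, 2052, 200, 2790, 1388, 3779, 6, 946, 2291, 1095, 2448, 2300, 1278, 2033, 2339, 3663, 553, 368],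
    [1707, 2193, 2118, 1896, 399, 3595, 3091, 3085, 3470, 703, 2517, 3978, 3028, 1168, 3042, 829, 43, 858, 1183],
    [1289, 3826, 151, 3344, 2279, 2649, 707, 112, 589, 1453, 2062, 3353, 1308, 619, 2793, 3275, 2329, 230, 89],
    [1160, 1137, 2699, 2853, 1495, 533, 3892, 1910, 3998, 1208, 2702, 3130, 1782, 2282, 2553, 457, 563, 2854, 2672],
    [1682, 1132, 3953, 965, 3131, 780, 28, 884, 3300, 1173, 2367, 3388, 2503, 3845, 1152, 3092, 1990, 2441, 657],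
    [3235, 3676, 945, 618, 1313, 3997, 2124, 1431, 2706, 486, 3383, 3985, 2826, 3709, 579, 2651, 434, 1741, 876],
    [942, 196, 2799, 1391, 3488, 313, 2547, 2315, 3030, 3833, 2304, 741, 2904, 3603, 2740, 1480, 676, 1330, 1395],
    [1160, 2766, 1763, 3224, 2183, 2899, 3892, 3658, 3544, 2030, 900, 2543, 1727, 1411, 1722, 1188, 164, 3536, 1434],
    [726, 683, 2589, 1530, 1178, 2599, 3000, 124, 756, 3664, 239, 2639, 2375, 78, 3562, 3533, 2965, 2441, 2452],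
    [1227, 419, 1014, 177, 266, 908, 1868, 748, 2143, 3288, 2190, 1856, 2178, 3549, 3260, 869, 98, 2397, 1986],
    [3783, 3948, 2990, 3408, 741, 2813, 1912, 3295, 2727, 1711, 598, 3488, 424, 565, 89, 69, 3004, 2883, 3093],
    [2030, 2488, 1683, 2894, 381, 166, 1410, 1474, 3567, 1160, 453, 818, 3155, 3187, 611, 263, 327, 716, 285],
    [2490, 1137, 857, 63, 2113, 3027, 3474, 3837, 946, 116, 3228, 1432, 1461, 2900, 2855, 1818, 928, 3678, 493],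
    [3842, 1760, 72, 889, 498, 2084, 3278, 3512, 1970, 2631, 133, 3958, 3926, 3651, 2080, 12, 403, 4025, 2114],
    [3309, 1586, 3081, 1514, 2318, 2993, 1106, 1813, 1437, 3569, 3198, 2409, 782, 23, 626, 3715, 575, 1033, 2740],
    [2030, 1126, 907, 2972, 1416, 3177, 1410, 3365, 3990, 1953, 3915, 1225, 1044, 596, 3585, 1424, 2486, 3840, 1975],
    [2285, 2014, 1893, 1265, 1656, 3551, 2357, 1271, 3000, 3897, 1738, 1491, 3108, 121, 2944, 3659, 1240, 2025, 2855],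
    [3163, 650, 637, 1722, 185, 2993, 3030, 1279, 3843, 2980, 413, 421, 3465, 3709, 751, 2375, 1606, 1962, 2418],
    [1212, 2893, 3244, 3871, 3423, 3911, 232, 2209, 2124, 1985, 1102, 3264, 690, 1462, 2572, 3898, 527, 2012, 865],
    [1160, 3572, 3486, 16, 530, 2299, 2065, 341, 3998, 1208, 1246, 1581, 2078, 559, 618, 696, 3041, 3536, 2867],
    [508, 1185, 1923, 2358, 3171, 1027, 3637, 240, 2501, 1855, 3340, 2222, 3552, 1169, 889, 1551, 1679, 1630, 547],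
    [1862, 1791, 3743, 2553, 2420, 513, 589, 3438, 2387, 4056, 3161, 3631, 1921, 1168, 1845, 3463, 2249, 425, 3866],
    [57, 75, 2948, 3015, 144, 3493, 402, 2045, 3091, 3218, 2943, 2247, 620, 982, 1776, 1514, 3279, 1377, 3586],
    [1160, 773, 2204, 927, 1575, 2771, 2065, 2723, 3544, 2030, 3754, 2389, 2419, 872, 1896, 148, 1474, 2854, 523],
    [1485, 228, 2866, 1448, 1670, 1576, 946, 1402, 3474, 2728, 348, 1614, 829, 2432, 1869, 1747, 2965, 1630, 3968],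
    [3639, 2077, 3503, 1635, 2615, 1932, 885, 265, 2727, 591, 115, 3523, 1544, 159, 2050, 3870, 3736, 859, 3287],
    [2697, 1688, 795, 2355, 2247, 1030, 233, 2747, 2143, 2946, 598, 144, 2497, 2336, 865, 3044, 44, 2211, 281],
    [2030, 861, 3581, 1256, 3969, 704, 506, 164, 3379, 1160, 3338, 978, 1764, 2586, 99, 1104, 1371, 716, 3347],
    [4019, 3572, 3234, 2060, 998, 4005, 756, 617, 3000, 267, 863, 3152, 630, 4046, 368, 367, 928, 1731, 1170],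
    [3098, 1171, 491, 1152, 1066, 405, 3983, 2996, 1437, 1147, 2007, 1534, 806, 2690, 3930, 1112, 32, 2521, 238],
    [3540, 1346, 754, 1480, 1096, 3595, 1130, 1735, 1970, 2341, 3198, 938, 2184, 2026, 316, 3646, 3729, 171, 1776],
    [2030, 2014, 2245, 429, 3212, 459, 506, 3812, 2658, 1953, 1405, 3775, 2325, 2979, 2769, 834, 1892, 3840, 903]]

/-- Part 1 of base images of the first halves. -/
def keysAC1 : List (List ℕ) :=
  [[858, 3951, 3782, 2781, 3856, 1325, 503, 3962, 1499, 859, 3003, 279, 3312, 433, 899, 3146, 1934, 3098, 763],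
    [1149, 1806, 2431, 1186, 2098, 166, 576, 3893, 742, 2094, 912, 1025, 3845, 1988, 3035, 222, 828, 2728, 3047],
    [2854, 2677, 3635, 4028, 677, 3803, 462, 2752, 1710, 929, 1017, 3880, 1286, 3351, 2, 3005, 2885, 2880, 1740],
    [1571, 3400, 3846, 705, 3273, 1174, 3959, 210, 1056, 1212, 3624, 6, 23, 1140, 982, 1364, 4010, 1748, 1365],
    [3842, 3739, 1127, 2480, 3799, 3138, 1733, 661, 3567, 1131, 3158, 3383, 1632, 924, 394, 3354, 1271, 211, 2595],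
    [1630, 3826, 816, 1871, 2298, 1535, 3796, 2911, 3413, 2029, 3791, 2755, 4052, 1331, 3224, 3857, 1016, 1926, 939],
    [487, 1779, 2192, 3382, 1861, 117, 3113, 1864, 1797, 2434, 1301, 1717, 3339, 1382, 2358, 3647, 2097, 3053, 3412],
    [1571, 3165, 305, 443, 1852, 2899, 3959, 133, 1563, 3329, 653, 3784, 896, 4003, 822, 1157, 916, 1035, 3154],
    [3288, 366, 2149, 1552, 3943, 1980, 2829, 818, 3892, 2270, 1660, 1767, 88, 1389, 2100, 4046, 2361, 211, 3709],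
    [2129, 1169, 1099, 2987, 3532, 1443, 1078, 1569, 933, 267, 2518, 3498, 2568, 3552, 436, 1024, 110, 2025, 987],
    [417, 2657, 2792, 1619, 1717, 2004, 46, 2643, 2868, 2887, 2183, 1861, 2496, 3432, 1740, 743, 627, 1184, 857],
    [3329, 775, 3597, 8, 2836, 3657, 2221, 2367, 2250, 1571, 2569, 3653, 1090, 1292, 1283, 2641, 1178, 778, 2583],
    [3902, 3400, 3767, 1763, 3214, 533, 2897, 3238, 1499, 590, 1706, 2701, 385, 2861, 619, 507, 2087, 2174, 3188],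
    [3897, 2743, 3675, 2428, 2146, 3490, 3180, 2247, 1805, 3993, 2323, 362, 685, 672, 75, 2402, 3899, 1944, 1560],
    [3644, 225, 1462, 2545, 2977, 3685, 3102, 1272, 3034, 2404, 1616, 3915, 3118, 1461, 1041, 3322, 2420, 3348, 2358],
    [3329, 3951, 1941, 1057, 1671, 405, 2221, 2088, 2357, 2153, 1205, 32, 2804, 3724, 3068, 3818, 897, 2845, 3090],
    [1862, 1375, 1080, 1968, 3710, 3551, 659, 2111, 2829, 1349, 3302, 3004, 1252, 1187, 2392, 3794, 586, 2412, 619],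
    [1556, 3440, 636, 822, 1746, 3685, 1797, 3419, 353, 1311, 2258, 1095, 1532, 1331, 2446, 88, 2985, 724, 2415],
    [472, 1476, 2337, 3249, 2244, 919, 2938, 3057, 3796, 1472, 3444, 3374, 497, 2974, 1189, 172, 4027, 3389, 1664],
    [1571, 114, 80, 1622, 265, 2491, 532, 1534, 1056, 1212, 1166, 1407, 3999, 3225, 1871, 3168, 2707, 1035, 3299],
    [1075, 1994, 3456, 1509, 2045, 3864, 3175, 25, 1094, 3139, 3393, 2790, 2622, 1674, 2428, 457, 4011, 804, 1588],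
    [2075, 1526, 278, 982, 2717, 513, 1710, 391, 1520, 3804, 3961, 2976, 1165, 1988, 1264, 3989, 1568, 315, 3270],
    [3433, 3610, 1232, 2259, 3886, 1661, 1915, 1010, 576, 3173, 1996, 2243, 2364, 3570, 2461, 2545, 2700, 2226, 3018],
    [1571, 1317, 528, 879, 3497, 980, 532, 1053, 1563, 3329, 3736, 358, 2531, 444, 1186, 3625, 2367, 1748, 256],
    [3477, 1076, 2148, 1698, 1371, 1739, 1499, 126, 2897, 1608, 79, 2772, 222, 689, 2189, 445, 2361, 804, 2921],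
    [1414, 3937, 3849, 2010, 141, 3929, 1481, 2750, 2868, 1647, 3228, 2749, 2907, 3395, 1218, 371, 2601, 3648, 732],
    [867, 2905, 3491, 377, 2243, 2771, 475, 2172, 933, 3972, 2183, 3886, 1818, 99, 1664, 2453, 712, 1203, 1760],
    [3329, 2580, 3500, 806, 1179, 634, 28, 916, 756, 1571, 381, 1906, 2157, 2555, 2368, 1213, 320, 778, 2704],
    [2980, 114, 2774, 4045, 266, 3145, 3892, 4055, 2829, 3882, 1614, 2049, 1250, 2316, 763, 1392, 2087, 1890, 170],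
    [2252, 208, 1959, 394, 1378, 1705, 694, 3253, 3034, 3301, 2723, 246, 2870, 871, 2184, 543, 2722, 1236, 1849],
    [3896, 1958, 464, 3647, 1225, 166, 303, 3616, 1805, 1000, 1616, 3776, 481, 785, 2744, 2539, 3476, 219, 2461],
    [3329, 1375, 1551, 1923, 2062, 1285, 28, 2216, 302, 2153, 953, 3099, 1282, 1356, 2362, 1986, 299, 2845, 3066]]

/-- Part 2 of base images of the first halves. -/
def keysAC2 : List (List ℕ) :=
  [[4019, 99, 2424, 367, 3534, 2649, 756, 1037, 2221, 267, 836, 164, 1480, 429, 1185, 2060, 3665, 2902, 1815],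
    [3619, 1982, 2228, 1595, 1837, 3306, 232, 1063, 402, 717, 413, 2638, 806, 614, 2628, 1136, 229, 2270, 213],
    [688, 3418, 3325, 630, 2057, 3164, 3030, 668, 2143, 1956, 2789, 3238, 1696, 3066, 1874, 2753, 2235, 3209, 1901],
    [2302, 1896, 150, 4046, 1753, 3229, 957, 3587, 762, 1887, 1060, 3444, 1886, 200, 3172, 1148, 1108, 3611, 1897],
    [3648, 2944, 2233, 2463, 1150, 307, 1628, 1568, 2454, 587, 531, 603, 1975, 3225, 805, 466, 983, 1630, 485],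
    [1750, 264, 795, 2783, 112, 794, 645, 3924, 654, 1465, 3666, 3564, 2316, 2605, 689, 1138, 2836, 1589, 471],
    [2883, 1812, 3503, 996, 3338, 2351, 3843, 1463, 1970, 422, 3889, 3754, 698, 388, 2395, 964, 2749, 1291, 2645],
    [2302, 3449, 1299, 2827, 73, 2594, 957, 3152, 309, 940, 2247, 3725, 1132, 3092, 3572, 1080, 1973, 1343, 3772],
    [2909, 368, 1664, 1412, 1489, 2813, 3272, 3219, 3779, 888, 1826, 2486, 3715, 3654, 396, 3242, 2158, 1630, 1243],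
    [1984, 1041, 2948, 2681, 1486, 277, 339, 1435, 3903, 2144, 362, 1700, 3876, 2059, 450, 1473, 1513, 1022, 3640],
    [347, 3206, 3743, 3626, 3754, 1980, 1437, 676, 2124, 224, 1484, 3338, 66, 2777, 1901, 336, 31, 2051, 2138],
    [940, 177, 1900, 546, 1199, 2353, 3284, 1491, 1599, 2302, 144, 2901, 3686, 1530, 2014, 2960, 3504, 2135, 2290],
    [2285, 1896, 1790, 3659, 1895, 1587, 2357, 3755, 2221, 3897, 3441, 2723, 3871, 16, 228, 1265, 1445, 2612, 3770],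
    [2635, 3705, 894, 147, 3295, 2020, 1130, 3888, 233, 3176, 2007, 2066, 3465, 448, 3511, 664, 2683, 2492, 3801],
    [3396, 2571, 2054, 3108, 2916, 1853, 3983, 516, 3091, 2064, 2288, 2244, 2718, 40, 1732, 2805, 1133, 3852, 2395],
    [940, 99, 2120, 121, 3130, 2105, 3284, 563, 503, 167, 4000, 2803, 1137, 1818, 4016, 3802, 3872, 1324, 3002],
    [0, 1266, 2768, 559, 613, 2345, 3474, 1555, 3272, 2291, 2298, 3752, 1720, 89, 3996, 105, 465, 553, 228],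
    [1192, 2461, 1602, 3572, 2970, 1853, 1970, 2896, 3278, 847, 2976, 2604, 3144, 2605, 2080, 3715, 1636, 1400, 744],
    [2447, 252, 3655, 2322, 343, 3551, 1912, 2420, 645, 2203, 1123, 3442, 521, 1775, 3868, 12, 2332, 478, 1278],
    [2302, 2325, 913, 2018, 1449, 3138, 3588, 3114, 762, 1887, 3437, 3212, 1522, 596, 2783, 3781, 3812, 1343, 3711],
    [723, 2419, 2589, 82, 3131, 995, 1563, 2746, 532, 2075, 3502, 2037, 3602, 2451, 147, 872, 3469, 4, 1644],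
    [2476, 2552, 2953, 3172, 1195, 3029, 2143, 3807, 1868, 3957, 1347, 3799, 1226, 614, 959, 1434, 2393, 3973, 1899],
    [2627, 3916, 2236, 2931, 1945, 634, 1106, 1180, 232, 235, 3489, 3839, 2445, 1619, 2900, 3108, 2747, 3936, 3528],
    [2302, 2154, 729, 540, 3025, 3733, 3588, 2370, 309, 940, 3253, 3893, 3905, 1097, 1595, 1612, 1491, 3611, 2651],
    [3468, 2123, 3953, 2586, 1178, 3789, 2221, 2195, 2357, 1311, 1879, 141, 1136, 880, 1004, 2763, 2158, 4, 3786],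
    [1036, 826, 2882, 861, 2134, 237, 2706, 2361, 2124, 3529, 3149, 119, 1981, 1894, 3339, 285, 411, 891, 573],
    [4042, 174, 1690, 2414, 3839, 1576, 707, 1066, 3903, 3372, 1484, 1945, 1315, 2047, 1278, 3874, 379, 57, 1995],
    [940, 3467, 1218, 3291, 1348, 1120, 1499, 1973, 2897, 2302, 3784, 2333, 3788, 3369, 1329, 3794, 199, 2135, 869],
    [2490, 2325, 1074, 3445, 3853, 3632, 3779, 3478, 3272, 116, 155, 3390, 1574, 2740, 1815, 2979, 1445, 3678, 2156],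
    [451, 1352, 3800, 805, 2643, 1081, 3470, 2736, 3091, 3966, 2913, 1863, 1762, 1317, 3042, 3275, 3798, 2110, 3258],
    [1241, 1233, 525, 964, 292, 3306, 2547, 1767, 233, 549, 2288, 1885, 3270, 49, 628, 829, 2104, 3329, 2900],
    [940, 1266, 404, 3035, 2111, 3704, 1499, 441, 3732, 167, 1114, 1687, 2240, 2282, 1971, 3599, 1614, 1324, 3552]]

/-- Part 3 of base images of the first halves. -/
def keysAC3 : List (List ℕ) :=
  [[2270, 3446, 3143, 217, 1103, 2765, 3990, 2479, 506, 891, 2840, 1013, 3400, 481, 3007, 1950, 1179, 451, 377],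
    [1920, 3908, 1268, 461, 3158, 2353, 1481, 2327, 1306, 2441, 2620, 1128, 3225, 2173, 865, 1451, 938, 1311, 436],
    [3611, 3197, 1202, 394, 2911, 1325, 1520, 3729, 3113, 3896, 1990, 1569, 658, 3408, 2847, 1978, 2113, 2013, 1307],
    [427, 772, 433, 2937, 2281, 3199, 1273, 863, 3107, 2447, 2722, 1037, 40, 1124, 1619, 1798, 3124, 2121, 896],
    [2635, 2876, 939, 810, 286, 3358, 3832, 1334, 1599, 858, 627, 3666, 3683, 2869, 106, 3170, 1555, 925, 1257],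
    [4, 3418, 1162, 3090, 129, 606, 1915, 3429, 3034, 1384, 1716, 2958, 1196, 2764, 2827, 3750, 2186, 3811, 837],
    [1669, 2128, 2474, 1600, 1182, 1281, 1888, 1350, 1078, 2275, 453, 3012, 2859, 1949, 82, 1186, 3498, 417, 3109],
    [427, 543, 3281, 2006, 454, 2594, 1273, 2007, 3637, 1159, 3713, 2510, 1898, 1946, 45, 2326, 3645, 2341, 2368],
    [2144, 1796, 360, 2245, 542, 176, 2163, 2901, 957, 3902, 1425, 2278, 3360, 2655, 1466, 2740, 3133, 925, 2605],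
    [1236, 2451, 3241, 2259, 2101, 704, 475, 3198, 353, 116, 2842, 2146, 2480, 3602, 793, 114, 3736, 553, 722],
    [3173, 2052, 3622, 3549, 3012, 287, 979, 3279, 742, 1820, 73, 1182, 1674, 3289, 1307, 3806, 2340, 522, 1790],
    [1159, 612, 2137, 419, 2422, 2794, 946, 531, 3561, 427, 2534, 1039, 761, 2352, 1832, 3814, 1489, 2334, 2595],
    [1131, 772, 3076, 1299, 3525, 3229, 3379, 11, 506, 2310, 2992, 3758, 3977, 3773, 3066, 3845, 1852, 2397, 3322],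
    [2291, 3766, 2442, 3920, 1305, 337, 1710, 3839, 2614, 3630, 952, 770, 3352, 415, 3916, 3507, 1736, 2317, 2742],
    [1358, 1559, 1775, 1588, 3714, 4008, 2868, 3878, 2019, 2324, 2220, 4000, 3332, 3871, 1456, 3831, 1195, 1577, 82],
    [1159, 3446, 1164, 1667, 4011, 1081, 946, 3580, 3474, 2085, 2678, 3798, 3647, 93, 3299, 1258, 3451, 2611, 2988],
    [2476, 47, 3093, 2870, 1032, 2345, 3785, 1757, 2163, 3477, 1042, 31, 492, 3208, 1365, 3586, 526, 3900, 3066],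
    [757, 1999, 1645, 45, 3925, 4008, 1078, 2943, 1100, 1855, 2483, 836, 437, 2764, 3506, 3360, 9, 1397, 519],
    [146, 2962, 1940, 3709, 3256, 2637, 3413, 1850, 1915, 1795, 3680, 3910, 1567, 592, 644, 2157, 874, 3764, 60],
    [427, 1814, 1072, 650, 2361, 1786, 2501, 1863, 3107, 2447, 3320, 2348, 4028, 180, 3090, 3392, 610, 2341, 1617],
    [1349, 1209, 682, 409, 1180, 70, 2365, 1859, 2676, 739, 1633, 3534, 2347, 3494, 3920, 1148, 3319, 1962, 346],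
    [2728, 1969, 3548, 1619, 1095, 3029, 3113, 2932, 1805, 3851, 3137, 352, 445, 2173, 1905, 3951, 2569, 2685, 2699],
    [2887, 876, 735, 3606, 1142, 1538, 269, 2349, 1481, 3531, 4026, 741, 1389, 903, 515, 1588, 280, 3151, 2863],
    [427, 3324, 1726, 3699, 48, 194, 2501, 3077, 3637, 1159, 411, 1831, 2969, 2166, 461, 484, 531, 2121, 3679],
    [3882, 2622, 588, 3346, 199, 2771, 506, 635, 3379, 326, 2661, 2017, 1451, 3500, 1676, 1058, 3133, 1962, 2864],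
    [2554, 3879, 3075, 2539, 1419, 3891, 46, 2745, 742, 3294, 3441, 498, 1308, 3192, 3861, 2417, 2852, 726, 2200],
    [3080, 2674, 970, 30, 741, 3733, 2354, 3850, 353, 65, 73, 1142, 1265, 1329, 60, 1283, 4018, 3296, 3705],
    [1159, 222, 2504, 1762, 156, 2429, 1628, 3645, 3779, 427, 1199, 2473, 220, 796, 886, 1929, 2920, 2334, 822],
    [847, 1814, 1759, 2009, 1486, 3135, 957, 3353, 2163, 1075, 141, 999, 567, 1286, 377, 771, 1852, 3283, 3382],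
    [1500, 2271, 2508, 106, 2918, 2277, 3796, 2243, 2019, 149, 2370, 4027, 3724, 3662, 3270, 725, 920, 3993, 2774],
    [3389, 2878, 3427, 1186, 2803, 2353, 933, 2802, 2614, 2854, 2220, 2297, 3995, 3913, 3028, 2399, 3302, 1208, 515],
    [1159, 47, 872, 2589, 2789, 3601, 1628, 258, 2255, 2085, 828, 1344, 2704, 2145, 1620, 3640, 2619, 2611, 3205]]

/-- The base images of the first halves. -/
def keysA : List (List ℕ) :=
  keysAC0 ++ keysAC1 ++ keysAC2 ++ keysAC3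

/-- Part 0 of base images of the inverse second halves. -/
def keysBC0 : List (List ℕ) :=
  [[0, 1126, 2052, 200, 2790, 1388, 3779, 6, 946, 2291, 1095, 2448, 2300, 1278, 2033, 2339, 3663, 553, 368],
    [3510, 72, 108, 965, 1042, 787, 3422, 1922, 3300, 604, 2707, 3631, 833, 4052, 684, 1428, 2660, 338, 1470],
    [2761, 1886, 3260, 2339, 613, 1505, 2501, 1977, 3637, 535, 3100, 1370, 2560, 711, 1170, 200, 1240, 1228, 2053],
    [3993, 438, 512, 1428, 575, 295, 3954, 3256, 2357, 1556, 2119, 1634, 2709, 3314, 76, 965, 354, 1570, 3800],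
    [3519, 3677, 50, 1187, 1108, 1724, 756, 1416, 1056, 3678, 2538, 1973, 206, 3621, 656, 1258, 2968, 2730, 1274],
    [14, 3646, 3412, 879, 1738, 3810, 3637, 2535, 2501, 315, 3812, 286, 3351, 1346, 646, 3103, 3123, 3804, 2168],
    [1397, 1262, 2861, 3727, 2715, 3997, 532, 2396, 364, 2379, 3522, 1827, 3237, 2957, 2069, 3332, 1016, 116, 2948],
    [733, 2073, 3494, 1242, 988, 2649, 946, 3126, 3779, 878, 2828, 2850, 557, 2596, 2039, 1261, 1945, 2516, 2770],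
    [2728, 3701, 3271, 1936, 2037, 2771, 3561, 3469, 2103, 1485, 2420, 3203, 2419, 3291, 964, 2411, 2304, 1086, 3461],
    [4038, 3743, 2824, 1754, 737, 1399, 2221, 938, 1215, 3811, 603, 3048, 1678, 2363, 209, 2107, 2836, 1384, 2385],
    [587, 3408, 2178, 2411, 441, 1230, 1175, 983, 3107, 3648, 2198, 413, 2210, 331, 2741, 1936, 2943, 3450, 1537],
    [3191, 3460, 730, 2107, 421, 3803, 1563, 1319, 2250, 3001, 2984, 33, 2102, 3093, 3520, 1754, 1831, 1920, 2165],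
    [3912, 3370, 3705, 130, 4010, 1865, 302, 2384, 3000, 1647, 2257, 1583, 1728, 710, 877, 3109, 2838, 2909, 1444],
    [149, 2607, 3010, 1622, 1313, 606, 3107, 43, 1175, 2892, 3383, 3834, 2452, 495, 3626, 1941, 1840, 3590, 1722],
    [179, 296, 3236, 745, 214, 3084, 3959, 3765, 28, 2252, 539, 352, 289, 2205, 1881, 1674, 323, 508, 2253],
    [2554, 1595, 3208, 1020, 1850, 769, 2103, 2011, 3561, 253, 1347, 916, 2577, 2224, 1704, 84, 3156, 2758, 1034],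
    [2728, 69, 2756, 781, 3580, 1295, 1273, 452, 3107, 3648, 1133, 1909, 2305, 335, 3583, 3883, 2389, 2252, 2503],
    [4038, 792, 250, 1921, 270, 3462, 3000, 2297, 2250, 3001, 2748, 284, 3731, 1355, 1386, 1065, 1916, 253, 1018],
    [587, 3871, 678, 3883, 1872, 2830, 2255, 1407, 2103, 1485, 3302, 1093, 1177, 2343, 2513, 781, 1161, 1647, 1112],
    [3191, 3615, 2570, 1065, 2717, 1379, 28, 1429, 1215, 3811, 2088, 3065, 2882, 3934, 3509, 1921, 1477, 2892, 2881],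
    [3912, 2015, 3116, 855, 1345, 3789, 3959, 856, 2221, 3450, 3759, 300, 3633, 2435, 3734, 2653, 1545, 508, 2181],
    [149, 2156, 528, 2655, 3748, 1502, 2103, 2043, 2255, 1920, 2796, 912, 2855, 3426, 3052, 2712, 1279, 2758, 1727],
    [179, 3147, 1249, 2667, 3667, 1339, 302, 3335, 1563, 1086, 212, 1116, 2953, 1446, 3244, 1307, 1861, 2909, 3629],
    [2554, 3905, 1041, 3625, 1195, 4021, 3107, 3423, 1273, 1384, 638, 3745, 1764, 2616, 3772, 275, 661, 3590, 493],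
    [0, 3662, 3369, 2233, 1103, 1287, 2454, 242, 3637, 535, 706, 251, 3711, 3724, 657, 2256, 2081, 2379, 2078],
    [3510, 446, 374, 1967, 2104, 62, 1056, 3816, 2357, 1556, 1716, 3071, 2228, 2904, 2126, 2424, 3338, 878, 4053],
    [2761, 228, 2464, 2256, 3710, 1442, 3474, 1757, 946, 2291, 2298, 480, 829, 1299, 221, 2233, 1263, 3678, 1266],
    [3993, 2574, 2467, 2424, 3003, 1207, 364, 1697, 3300, 604, 3961, 4044, 956, 3767, 2799, 1967, 1179, 315, 2042],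
    [3519, 3132, 393, 1049, 1607, 107, 532, 1123, 3422, 1228, 1367, 1633, 802, 1542, 2005, 1726, 1568, 116, 1382],
    [14, 21, 2215, 497, 2903, 719, 946, 2884, 3474, 1570, 1475, 736, 1331, 629, 2123, 2942, 526, 2516, 3108],
    [1397, 3233, 3699, 3046, 1326, 2663, 756, 2789, 3954, 553, 3397, 3059, 1224, 2382, 2990, 419, 1430, 2730, 128],
    [733, 819, 1501, 3168, 4050, 3733, 3637, 2427, 2454, 338, 3763, 531, 3463, 2562, 871, 3455, 3085, 3804, 2433]]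

/-- Part 1 of base images of the inverse second halves. -/
def keysBC1 : List (List ℕ) :=
  [[2490, 1329, 3914, 2979, 1121, 3164, 3779, 3222, 946, 116, 152, 1973, 964, 3035, 2419, 3445, 1045, 1228, 2997],
    [2821, 1026, 4040, 915, 3476, 2246, 3422, 1114, 3300, 2516, 1656, 286, 209, 101, 1678, 3092, 4026, 1570, 994],
    [622, 147, 3194, 3445, 610, 1081, 2501, 1271, 3637, 2730, 3656, 1827, 2741, 2489, 2210, 2979, 3363, 553, 3155],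
    [2129, 1561, 87, 3092, 3017, 1576, 3954, 2409, 2357, 3804, 3534, 2850, 3520, 457, 2102, 915, 2393, 338, 3434],
    [1397, 3737, 4032, 186, 3365, 980, 756, 3444, 1056, 2379, 2840, 2448, 877, 2650, 1728, 1709, 1348, 535, 1988],
    [733, 1136, 2641, 1189, 129, 405, 3637, 3836, 2501, 878, 1206, 3631, 3626, 1713, 2452, 1601, 2550, 1556, 545],
    [3519, 934, 1625, 2552, 3388, 1770, 532, 3, 364, 3678, 3729, 1370, 1881, 679, 289, 1072, 2543, 2291, 447],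
    [14, 2867, 2496, 791, 2546, 2576, 946, 3807, 3779, 315, 2222, 1634, 1704, 1701, 2577, 2801, 453, 604, 2931],
    [1855, 2629, 1353, 2846, 3136, 1091, 3561, 3575, 2103, 508, 740, 1583, 2033, 628, 2300, 373, 2998, 3450, 1745],
    [1023, 2151, 1012, 225, 1025, 1705, 2221, 953, 1215, 2758, 1251, 3834, 684, 880, 833, 3258, 1015, 1920, 3841],
    [888, 759, 2652, 373, 3041, 1061, 1175, 1017, 3107, 2909, 71, 352, 1170, 1875, 2560, 2846, 3240, 1086, 2651],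
    [686, 2238, 1373, 3258, 518, 2765, 1563, 4000, 2250, 3590, 563, 916, 76, 1188, 2709, 225, 1719, 1384, 1300],
    [179, 2557, 484, 3148, 3161, 1325, 302, 4011, 3000, 2252, 1418, 3203, 656, 625, 206, 3814, 1987, 3648, 1602],
    [2554, 1004, 1791, 2461, 668, 3722, 3107, 169, 1175, 253, 3542, 3048, 646, 2485, 3351, 3643, 1238, 3001, 2325],
    [3912, 1613, 1389, 3377, 3666, 2277, 3959, 3558, 28, 1647, 3978, 413, 2069, 1566, 3237, 2515, 1318, 1485, 3790],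
    [149, 1137, 2268, 2624, 2606, 1008, 2103, 9, 3561, 2892, 3124, 33, 2039, 2519, 557, 355, 3416, 3811, 3562],
    [1855, 849, 238, 3465, 1277, 3200, 1273, 1662, 3107, 2909, 3931, 300, 657, 682, 3711, 198, 2327, 1647, 3002],
    [1023, 1314, 3245, 1843, 1952, 794, 3000, 3924, 2250, 3590, 125, 912, 2126, 1308, 2228, 2659, 25, 2892, 2276],
    [888, 1695, 1559, 198, 3207, 3073, 2255, 2941, 2103, 508, 3553, 1116, 221, 2862, 829, 3465, 1199, 2252, 2753],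
    [686, 2131, 3953, 2659, 836, 194, 28, 1205, 1215, 2758, 2621, 3745, 2799, 2245, 956, 1843, 1543, 253, 544],
    [179, 2602, 1164, 257, 3137, 1030, 3959, 2479, 2221, 1086, 2604, 1909, 2005, 648, 802, 319, 306, 1485, 3627],
    [2554, 304, 1546, 2364, 1503, 2477, 2103, 262, 2255, 1384, 1032, 284, 2123, 2647, 1331, 1409, 3556, 3811, 2944],
    [3912, 2118, 3201, 2083, 3791, 248, 302, 227, 1563, 3450, 1128, 1093, 2990, 463, 1224, 1667, 2936, 3648, 3674],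
    [149, 1185, 8, 1760, 2209, 3333, 3107, 1991, 1273, 1920, 3856, 3065, 871, 208, 3463, 3597, 860, 3001, 3204],
    [2490, 3788, 1448, 2866, 1450, 3956, 2454, 961, 3637, 2730, 2090, 1633, 3583, 1968, 2305, 1638, 3886, 3678, 1152],
    [2821, 1336, 1961, 450, 2752, 3177, 1056, 2911, 2357, 3804, 1947, 736, 1386, 2415, 3731, 2657, 2510, 315, 3267],
    [622, 2068, 1747, 1638, 329, 1535, 3474, 3212, 946, 116, 488, 3059, 2513, 1396, 1177, 2866, 2274, 2379, 611],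
    [2129, 3545, 2841, 2657, 3316, 499, 364, 1606, 3300, 2516, 1398, 531, 3509, 1702, 2882, 450, 2251, 878, 3517],
    [1397, 2875, 1834, 3944, 83, 3974, 532, 342, 3422, 553, 3057, 251, 3734, 1812, 3633, 3072, 2534, 2291, 3395],
    [733, 3174, 2383, 3947, 2638, 2617, 946, 2279, 3474, 338, 258, 3071, 3052, 1021, 2855, 2307, 334, 604, 1584],
    [3519, 2927, 644, 173, 2216, 2105, 756, 1992, 3954, 1228, 112, 480, 3244, 2139, 2953, 1456, 2746, 535, 3009],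
    [14, 285, 669, 1641, 3573, 1739, 3637, 391, 2454, 1570, 1478, 4044, 3772, 397, 1764, 3773, 950, 1556, 2684]]

/-- Part 2 of base images of the inverse second halves. -/
def keysBC2 : List (List ℕ) :=
  [[622, 376, 183, 943, 3161, 1295, 3474, 1123, 1628, 2730, 1418, 3752, 2290, 2149, 2654, 142, 306, 3678, 3023],
    [2129, 3655, 3371, 2763, 668, 3462, 364, 2884, 532, 3804, 3542, 2403, 844, 2740, 1401, 4006, 3556, 315, 3095],
    [2490, 1243, 3308, 142, 3666, 2830, 2454, 2789, 3272, 116, 3978, 3376, 1234, 3599, 3467, 943, 2936, 2379, 3045],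
    [2821, 1783, 3610, 4006, 2606, 1379, 1056, 2427, 756, 2516, 3124, 3323, 2311, 825, 1194, 2763, 860, 878, 151],
    [2094, 1254, 3387, 3332, 3136, 3789, 2357, 242, 3954, 553, 740, 1474, 550, 1342, 3887, 3727, 2327, 2291, 3262],
    [593, 3501, 460, 1261, 1025, 1502, 3272, 3816, 2454, 338, 1251, 2483, 3552, 68, 889, 1242, 25, 604, 605],
    [1630, 3424, 1567, 1258, 3041, 1339, 3300, 1757, 3422, 1228, 71, 2755, 2598, 2067, 3060, 1187, 1199, 535, 301],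
    [968, 380, 3375, 3103, 518, 4021, 1628, 1697, 3474, 1570, 563, 3340, 3492, 1688, 1357, 879, 1543, 1556, 2805],
    [888, 664, 2989, 2032, 3365, 1287, 2255, 856, 3809, 2909, 2840, 3940, 3585, 3845, 3870, 1144, 2534, 1647, 630],
    [686, 2939, 3636, 1536, 129, 62, 28, 2043, 3959, 3590, 1206, 2035, 2312, 2793, 3862, 1046, 334, 2892, 607],
    [1855, 3602, 1226, 1144, 3388, 1442, 1273, 3335, 2877, 508, 3729, 3131, 1635, 3528, 714, 2032, 2746, 2252, 3874],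
    [1023, 2780, 367, 1046, 2546, 1207, 3000, 3423, 302, 2758, 2222, 3004, 3178, 1652, 3328, 1536, 950, 253, 795],
    [3097, 1804, 2703, 1674, 1121, 107, 2250, 452, 1563, 1086, 152, 2232, 2806, 2856, 779, 745, 3886, 1485, 2999],
    [1944, 476, 3818, 84, 3476, 719, 2877, 2297, 1273, 1384, 1656, 1463, 1782, 569, 3570, 1020, 2510, 3811, 1360],
    [3613, 675, 2142, 3109, 610, 2663, 1215, 1407, 2221, 3450, 3656, 1593, 1323, 1828, 3697, 130, 2274, 3648, 85],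
    [1597, 293, 80, 1941, 3017, 3733, 3809, 1429, 2255, 1920, 3534, 399, 99, 3669, 12, 1622, 2251, 3001, 189],
    [888, 330, 2199, 2401, 83, 1388, 1175, 2384, 2877, 508, 3057, 2340, 1896, 3270, 3384, 1083, 1348, 3450, 2414],
    [686, 3547, 1476, 2405, 2638, 787, 1563, 43, 302, 2758, 258, 839, 2951, 1509, 754, 188, 2550, 1920, 137],
    [1855, 2764, 3140, 1083, 2216, 1505, 3561, 3765, 3809, 2909, 112, 1864, 1869, 722, 996, 2401, 2543, 1086, 2536],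
    [1023, 3909, 2080, 188, 3573, 295, 2221, 2011, 3959, 3590, 1478, 379, 3946, 187, 3247, 2405, 453, 1384, 3774],
    [3097, 574, 3609, 1307, 1450, 1724, 1215, 3469, 28, 2252, 2090, 3158, 3987, 1302, 3933, 2667, 1045, 3648, 2266],
    [1944, 2369, 1135, 275, 2752, 3810, 3809, 938, 3561, 253, 1947, 2045, 3600, 3410, 2322, 3625, 4026, 3001, 2769],
    [3613, 1557, 650, 2653, 329, 3997, 2250, 983, 3000, 1647, 488, 190, 3473, 947, 3243, 855, 3363, 1485, 3432],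
    [1597, 4016, 2048, 2712, 3316, 2649, 2877, 1319, 1175, 2892, 1398, 2970, 3921, 3216, 1, 2655, 2393, 3811, 3089],
    [622, 747, 466, 751, 3137, 2771, 2501, 1416, 3272, 116, 2604, 712, 3661, 1315, 1044, 2962, 1987, 1228, 3968],
    [2129, 430, 2016, 1948, 1503, 1399, 3954, 2535, 756, 2516, 1032, 3564, 3578, 3581, 2506, 3234, 1238, 1570, 3618],
    [2490, 1198, 2463, 2962, 3791, 1230, 3779, 2396, 1628, 2730, 1128, 2349, 3134, 4048, 2797, 751, 1318, 553, 1841],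
    [2821, 3055, 3926, 3234, 2209, 3803, 3422, 3126, 532, 3804, 3856, 1013, 1523, 898, 3720, 1948, 3416, 338, 2180],
    [2094, 3503, 2261, 419, 1277, 1865, 3300, 6, 364, 2379, 3931, 1746, 1222, 3345, 3110, 3046, 2998, 535, 3848],
    [593, 2208, 24, 3455, 1952, 606, 1628, 1922, 3779, 878, 125, 1673, 1461, 786, 2553, 3168, 1015, 1556, 2925],
    [1630, 2058, 395, 1726, 3207, 3084, 2357, 1977, 1056, 3678, 3553, 3321, 894, 3418, 3638, 1049, 3240, 2291, 1582],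
    [968, 1480, 1057, 2942, 836, 769, 3272, 3256, 2501, 315, 2621, 1420, 336, 3263, 2154, 497, 1719, 604, 1482]]

/-- Part 3 of base images of the inverse second halves. -/
def keysBC3 : List (List ℕ) :=
  [[2761, 102, 1074, 3838, 4010, 3200, 3474, 342, 1628, 535, 2257, 1474, 3870, 3407, 3585, 2814, 1545, 2379, 618],
    [3993, 3166, 3287, 1403, 1313, 794, 364, 2279, 532, 1556, 3383, 2483, 3862, 2853, 2312, 2586, 1279, 878, 3169],
    [0, 2844, 959, 2814, 214, 3073, 2454, 1992, 3272, 2291, 539, 2755, 714, 2175, 1635, 3838, 1861, 3678, 3449],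
    [3510, 2526, 471, 2586, 1850, 194, 1056, 391, 756, 604, 1347, 3340, 3328, 1292, 3178, 1403, 661, 315, 202],
    [1630, 911, 3392, 1072, 2037, 1030, 2357, 961, 3954, 1228, 2420, 3752, 779, 3937, 2806, 2552, 2389, 116, 785],
    [968, 1391, 3982, 2801, 737, 2477, 3272, 2911, 2454, 1570, 603, 2403, 3570, 1158, 1782, 791, 1916, 2516, 1897],
    [2094, 3479, 914, 1709, 441, 248, 3300, 3212, 3422, 553, 2198, 3376, 3697, 3992, 1323, 186, 1161, 2730, 2439],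
    [593, 854, 831, 1601, 421, 3333, 1628, 1606, 3474, 338, 2984, 3323, 12, 715, 99, 1189, 1477, 3804, 2375],
    [587, 3898, 1773, 876, 1108, 3956, 2255, 2479, 3809, 3648, 2538, 2232, 2654, 180, 2290, 573, 1568, 2252, 162],
    [3191, 2509, 2060, 1183, 1738, 3177, 28, 262, 3959, 3001, 3812, 1463, 1401, 3224, 844, 2788, 526, 253, 2542],
    [2728, 903, 2248, 573, 2715, 1535, 1273, 227, 2877, 1485, 3522, 1593, 3467, 3794, 1234, 876, 1430, 1647, 3011],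
    [4038, 2499, 2282, 2788, 988, 499, 3000, 1991, 302, 3811, 2828, 399, 1194, 3873, 2311, 1183, 3085, 2892, 3343],
    [3613, 2444, 2940, 2515, 2790, 3974, 2250, 1662, 1563, 3450, 1095, 3940, 3887, 468, 550, 3377, 2081, 508, 3081],
    [1597, 3381, 1029, 355, 1042, 2617, 2877, 3924, 1273, 1920, 2707, 2035, 889, 3908, 3552, 2624, 3338, 2758, 547],
    [3097, 985, 2137, 3814, 613, 2105, 1215, 2941, 2221, 1086, 3100, 3131, 3060, 3013, 2598, 3148, 1263, 2909, 672],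
    [1944, 485, 3118, 3643, 575, 1739, 3809, 1205, 2255, 1384, 2119, 3004, 1357, 835, 3492, 2461, 1179, 3590, 2961],
    [587, 1434, 2371, 1811, 1607, 3164, 1175, 4011, 2877, 1485, 1367, 3158, 1044, 150, 3661, 3741, 2968, 1086, 3220],
    [3191, 3483, 1176, 3876, 2903, 2246, 1563, 169, 302, 3811, 1475, 2045, 2506, 2779, 3578, 580, 3123, 1384, 2871],
    [2728, 386, 213, 3741, 1326, 1081, 3561, 3558, 3809, 3648, 3397, 190, 2797, 3014, 3134, 1811, 1016, 3450, 750],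
    [4038, 1031, 15, 580, 4050, 1576, 2221, 9, 3959, 3001, 3763, 2970, 3720, 2166, 1523, 3876, 1945, 1920, 811],
    [3613, 1506, 1891, 1667, 1103, 980, 1215, 3575, 28, 1647, 706, 2340, 3110, 370, 1222, 2083, 3663, 2909, 3481],
    [1597, 861, 1957, 3597, 2104, 405, 3809, 953, 3561, 2892, 1716, 839, 2553, 809, 1461, 1760, 2660, 3590, 3373],
    [3097, 525, 515, 319, 3710, 1770, 2250, 1017, 3000, 2252, 2298, 1864, 3638, 1685, 894, 257, 1240, 508, 3740],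
    [1944, 3620, 972, 1409, 3003, 2576, 2877, 4000, 1175, 253, 3961, 379, 2154, 3689, 336, 2364, 354, 2758, 177],
    [2761, 773, 1411, 3511, 1345, 1091, 2501, 3444, 3272, 2291, 3759, 1746, 3384, 2795, 1896, 1935, 2838, 553, 350],
    [3993, 817, 3361, 1845, 3748, 1705, 3954, 3836, 756, 604, 2796, 1673, 754, 3861, 2951, 1529, 1840, 338, 3719],
    [0, 3172, 192, 1935, 3667, 1061, 3779, 3, 1628, 535, 212, 3321, 996, 651, 1869, 3511, 323, 1228, 2662],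
    [3510, 1930, 3144, 1529, 1195, 2765, 3422, 3807, 532, 1556, 638, 1420, 3247, 2742, 3946, 1845, 3156, 1570, 3823],
    [1630, 2223, 3282, 1456, 3580, 1325, 3300, 3222, 364, 3678, 1133, 712, 3933, 2809, 3987, 173, 2304, 2730, 2974],
    [968, 1464, 2398, 3773, 270, 3722, 1628, 1114, 3779, 315, 2748, 3564, 2322, 1913, 3600, 1641, 2836, 3804, 869],
    [2094, 4030, 406, 3072, 1872, 2277, 2357, 1271, 1056, 2379, 3302, 2349, 3243, 969, 3473, 3944, 2943, 116, 4043],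
    [593, 158, 1740, 2307, 2717, 1008, 3272, 2409, 2501, 878, 2088, 1013, 1, 3016, 3921, 3947, 1831, 2516, 1457]]

/-- The base images of the inverse second halves. -/
def keysB : List (List ℕ) :=
  keysBC0 ++ keysBC1 ++ keysBC2 ++ keysBC3

/-- A word for the prime 3. -/
def threeU : List ℕ := [14, 13, 15, 10, 9, 10, 9, 9, 4, 7, 5, 6, 6, 5, 2, 2, 2, 2, 1, 2, 1]

/-- A word for the prime 3. -/
def threeV : List ℕ := [14, 13, 8, 8, 10, 9, 11, 8, 10, 4, 4, 7, 5, 7, 5, 0, 3, 3, 3, 3, 0, 2]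

/-- A word for the prime 3. -/
def threeH : List ℕ := [12, 15, 12, 9, 10, 9, 10, 5, 5, 6, 4, 6, 2, 0, 0, 0, 3, 3, 3]

/-- A word for the prime 5. -/
def fiveU : List ℕ := [13, 8, 8, 8, 8, 10, 4, 7, 4, 7, 7, 4, 7]

/-- A word for the prime 5. -/
def fiveV : List ℕ := [15, 13, 9, 9, 9, 11, 8, 8, 6, 5, 5, 6, 4, 6, 4, 2, 0, 3, 0, 3, 0, 3]

/-- A word for the prime 5. -/
def fiveH : List ℕ := [12, 14, 9, 10, 9, 10, 10, 8, 4, 7, 4, 7, 7, 4, 7]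

/-- An element of order 7. -/
def elt7 : List ℕ := [12, 12, 10, 10, 8, 8, 4, 4, 4, 7, 7, 5, 6, 5, 2, 0, 2, 1, 3, 3]

/-- An element of order 13. -/
def elt13 : List ℕ := [12, 14, 9, 10, 9, 9, 9, 10, 7, 5, 7, 4, 4, 1, 1, 1, 1, 3, 1, 2, 2, 0]

/-- An element of order 29. -/
def elt29 : List ℕ := [0, 2, 0, 3, 0, 2, 0, 2]

/-- The index of a relation. -/
def rix (a b : ℕ) : ℕ := if a = b then a else 14 + b * (27 - b) / 2 + (a - b - 1)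

/-- The certificate. -/
def cert : SylowTail.Data where
  n := 14
  rels := rels
  rix := rix
  pairs := pairs
  eqns := eqns
  yv := yv
  wv := wv
  mv := mv
  umat := umat
  jmat := jmat
  den := 2
  ycomb := ycomb
  zcomb := zcomb
  fuel := 5000

end Cfsg.Agent.RuMult82
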