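import Cfsg.Agent.RuMult82.Words
import Cfsg.Agent.RuMult82.Data
import Cfsg.Agent.SylowTail.Reduce

/-!
The certified Sylow 2-subgroup of the Rudvalis group.
-/

set_option autoImplicit false
set_option maxRecDepth 100000

namespace Cfsg.Agent.RuMult82

open Cfsg.Agent.CosetEnum Cfsg.Agent.SporB.Ru Cfsg.Agent.SylowTail

/-- The word of a generator. -/
def pcw (i : ℕ) : List ℕ := pcWords.getD i []

/-- Spell out a word in the generators. -/
def expand (w : List ℕ) : List ℕ := w.flatMap pcw

/-- The generators. -/
noncomputable def aFun (i : ℕ) : H := V (pcw i)

/-- The fusing elements. -/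
noncomputable def gFun (f : ℕ) : H := V (fusWords.getD f [])

theorem eval_expand : ∀ w : List ℕ, evalWord aFun w = V (expand w)
  | [] => rfl
  | i :: w => by
    show aFun i * evalWord aFun w = _
    rw [eval_expand w, aFun]
    simp only [expand, List.flatMap_cons, V, evalWord_append]

theorem small_getD {L : List (List ℕ)} (h : L.all small = true) (i : ℕ) :
    small (L.getD i []) = true := by
  rw [List.getD_eq_getElem?_getD]
  cases e : L[i]? with
  | none => rfl
  | some w => exact List.all_eq_true.mp h w (List.mem_of_getElem? e)

theorem pcWords_small : pcWords.all small = true := by decide +kernel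

theorem fusWords_small : fusWords.all small = true := by decide +kernel

theorem small_expand (w : List ℕ) : small (expand w) = true := by
  simp only [small, expand, List.all_flatMap, List.all_eq_true]
  intro i _ l hl
  exact List.all_eq_true.mp (small_getD pcWords_small i) l hl

theorem small_append {u w : List ℕ} (hu : small u = true) (hw : small w = true) :
    small (u ++ w) = true := by
  simp only [small, List.all_append, Bool.and_eq_true] at *
  exact ⟨hu, hw⟩

theorem rels_check : (cert.rels.all fun r => agree (expand r.1) (expand r.2)) = true := by
  decide +kernel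

theorem fused_check : (cert.pairs.all fun p =>
    agree (expand p.2.1 ++ fusWords.getD p.1 []) (fusWords.getD p.1 [] ++ expand p.2.2)) = true := by
  decide +kernel

/-- The first half of the generators. -/
def halfA : List ℕ := [0, 1, 2, 3, 4, 5, 6]

/-- The second half of the generators. -/
def halfB : List ℕ := [7, 8, 9, 10, 11, 12, 13]

theorem keysA_check : (halfA.sublists.map fun u => baseKey (expand u)) = keysA := by
  decide +kernel

theorem keysB_check : (halfB.sublists.map fun u => baseKey (invWord (expand u))) = keysB := by
  decide +kernel

theorem keys_check : ((List.range 128).all fun i => (List.range 128).all fun j =>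
    !(keysA.getD i [] == keysB.getD j []) || (i == 0 && j == 0)) = true := by
  decide +kernel

theorem sublists_head : halfA.sublists.getD 0 [1] = [] ∧ halfB.sublists.getD 0 [1] = [] := by
  decide +kernel

theorem indep (u : List ℕ) (hu : cert.Norm 0 u) (h : evalWord aFun u = 1) : u = [] := by
  have hsub : u.Sublist (halfA ++ halfB) := by
    refine List.sublist_of_subperm_of_pairwise (r := (· < ·)) ?_ hu.1 (by decide)
    have hnd : u.Nodup := List.Pairwise.imp (fun h => ne_of_lt h) hu.1
    refine hnd.subperm ?_
    intro b hb
    have h14 : b < 14 := (hu.2 b hb).2
    simp only [halfA, halfB, List.cons_append, List.nil_append, List.mem_cons, List.not_mem_nil,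
      or_false]
    omega
  obtain ⟨u1, u2, rfl, h1, h2⟩ := List.sublist_append_iff.mp hsub
  rw [eval_expand, expand, List.flatMap_append, V, evalWord_append] at h
  have he : V (expand u1) = V (invWord (expand u2)) := by
    rw [V_invWord (small_expand u2)]
    exact eq_inv_of_mul_eq_one_left h
  have hk := key_eq (small_expand u1) (small_invWord (small_expand u2)) he
  obtain ⟨i, hi, ei⟩ := List.getElem_of_mem (List.mem_sublists.mpr h1)
  obtain ⟨j, hj, ej⟩ := List.getElem_of_mem (List.mem_sublists.mpr h2)
  have hlA : halfA.sublists.length = 128 := by simp [halfA]
  have hlB : halfB.sublists.length = 128 := by simp [halfB]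
  have hkA : keysA.getD i [] = baseKey (expand u1) := by
    rw [← keysA_check, List.getD_eq_getElem _ _ (by simpa using hi), List.getElem_map, ei]
  have hkB : keysB.getD j [] = baseKey (invWord (expand u2)) := by
    rw [← keysB_check, List.getD_eq_getElem _ _ (by simpa using hj), List.getElem_map, ej]
  have hc := keys_check
  simp only [List.all_eq_true, List.mem_range] at hc
  have hc' := hc i (hlA ▸ hi) j (hlB ▸ hj)
  rw [hkA, hkB, hk] at hc'
  simp only [beq_self_eq_true, Bool.not_true, Bool.false_or, Bool.and_eq_true, beq_iff_eq] at hc'
  obtain ⟨rfl, rfl⟩ := hc'
  have e1 : u1 = [] := by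
    rw [← ei, ← List.getD_eq_getElem _ [1] hi]
    exact sublists_head.1
  have e2 : u2 = [] := by
    rw [← ej, ← List.getD_eq_getElem _ [1] hj]
    exact sublists_head.2
  rw [e1, e2, List.append_nil]

theorem holds : Holds cert aFun gFun where
  rels k r hr := by
    rw [eval_expand, eval_expand]
    exact V_eq (small_expand _) (small_expand _)
      (List.all_eq_true.mp rels_check r (List.mem_of_getElem? hr))
  fused k p hp := by
    rw [eval_expand, eval_expand, gFun, ← evalWord_append, ← evalWord_append]
    exact V_eq (small_append (small_expand _) (small_getD fusWords_small _))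
      (small_append (small_getD fusWords_small _) (small_expand _))
      (List.all_eq_true.mp fused_check p (List.mem_of_getElem? hp))
  indep := indep

end Cfsg.Agent.RuMult82
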