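import Cfsg.Agent.SporB.Ru.Main

/-!
Words in the first sixteen letters as elements of the Rudvalis permutation group.
-/

set_option autoImplicit false
set_option maxRecDepth 100000

namespace Cfsg.Agent.RuMult82

open Cfsg.Agent.CosetEnum Cfsg.Agent.SporB.Ru

/-- The group. -/
abbrev H : Type := sg [0, 2]

theorem gen_mem (l : ℕ) (h : l ∈ [0, 2, 4, 6, 8, 10, 12, 14]) : v l ∈ sg [0, 2] := by
  simp only [List.mem_cons, List.not_mem_nil, or_false] at h
  rcases h with rfl | rfl | rfl | rfl | rfl | rfl | rfl | rfl
  exacts [mem_sg (by decide), mem_sg (by decide), g00 (mem_sg (by decide)),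
    g00 (mem_sg (by decide)), g00 (g10 (mem_sg (by decide))), g00 (g10 (mem_sg (by decide))),
    g00 (g10 (g21 (mem_sg (by decide)))), g00 (g10 (g21 (mem_sg (by decide))))]

theorem letter_mem {l : ℕ} (h : l < 16) : v l ∈ sg [0, 2] := by
  rcases Nat.mod_two_eq_zero_or_one l with he | he
  · exact gen_mem l (by interval_cases l <;> first | decide | omega)
  · have hl : l = linv (l - 1) := by
      interval_cases l <;> first | omega | decide +kernel
    rw [hl]
    show val lettersOK (linv (l - 1)) ∈ _
    rw [val_linv lettersOK (show l - 1 < nl by simp only [nl]; omega)]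
    exact inv_mem (gen_mem (l - 1) (by interval_cases l <;> first | decide | omega))

/-- The element of a letter. -/
noncomputable def letter (l : ℕ) : H := if h : l < 16 then ⟨v l, letter_mem h⟩ else 1

/-- The element of a word. -/
noncomputable abbrev V (w : List ℕ) : H := evalWord letter w

/-- The word uses the first sixteen letters only. -/
def small (w : List ℕ) : Bool := w.all fun l => Nat.blt l 16

theorem small_iff {w : List ℕ} (h : small w = true) : ∀ l ∈ w, l < 16 := fun l hl =>
  Nat.le_of_ble_eq_true (List.all_eq_true.mp h l hl)

theorem small_nl {w : List ℕ} (h : small w = true) : ∀ l ∈ w, l < nl := fun l hl => by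
  have := small_iff h l hl
  simp only [nl]; omega

theorem coe_V : ∀ {w : List ℕ}, small w = true →
    ((V w : H) : Equiv.Perm Pt) = evalWord (val lettersOK) w
  | [], _ => rfl
  | l :: w, h => by
    have hl : l < 16 := small_iff h l List.mem_cons_self
    have hw : small w = true := by
      simp only [small, List.all_cons, Bool.and_eq_true] at h
      exact h.2
    show ((letter l * V w : H) : Equiv.Perm Pt) = val lettersOK l * evalWord (val lettersOK) w
    rw [Subgroup.coe_mul, coe_V hw]
    simp [letter, hl]

theorem V_eq {u w : List ℕ} (hu : small u = true) (hw : small w = true) (h : agree u w = true) :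
    V u = V w := by
  refine Subtype.ext ?_
  rw [coe_V hu, coe_V hw]
  refine agree_eq lettersOK faithful_H (small_nl hu) (small_nl hw) ?_ ?_ h
  · rw [← coe_V hu]; exact (V u).2
  · rw [← coe_V hw]; exact (V w).2

/-- The images of the base. -/
noncomputable def baseKey (w : List ℕ) : List ℕ := base.map (go w)

theorem key_eq {u w : List ℕ} (hu : small u = true) (hw : small w = true) (h : V u = V w) :
    baseKey u = baseKey w := by
  have hc : evalWord (val lettersOK) u = evalWord (val lettersOK) w := by
    rw [← coe_V hu, ← coe_V hw, h]
  refine List.map_congr_left fun b hb => ?_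
  have hb' : b < 4060 := by
    revert b
    decide +kernel
  have h1 := go_eval lettersOK u (small_nl hu) ⟨b, hb'⟩
  have h2 := go_eval lettersOK w (small_nl hw) ⟨b, hb'⟩
  rw [hc] at h1
  exact h1.symm.trans h2

theorem V_ne {u w : List ℕ} (hu : small u = true) (hw : small w = true)
    (h : baseKey u ≠ baseKey w) : V u ≠ V w := fun e => h (key_eq hu hw e)

/-- The word of the inverse. -/
def invWord (w : List ℕ) : List ℕ := w.reverse.map linv

theorem linv_small {l : ℕ} (h : l < 16) : linv l < 16 := by
  interval_cases l <;> decide +kernel

theorem small_invWord {w : List ℕ} (h : small w = true) : small (invWord w) = true := by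
  simp only [small, invWord, List.all_eq_true, List.mem_map, List.mem_reverse]
  rintro _ ⟨l, hl, rfl⟩
  exact Nat.ble_eq_true_of_le (linv_small (small_iff h l hl))

theorem V_invWord {w : List ℕ} (h : small w = true) : V (invWord w) = (V w)⁻¹ := by
  induction w with
  | nil => simp [invWord, evalWord]
  | cons l w ih =>
    have hl : l < 16 := small_iff h l List.mem_cons_self
    have hw : small w = true := by
      simp only [small, List.all_cons, Bool.and_eq_true] at h
      exact h.2
    show evalWord letter (invWord (l :: w)) = (letter l * evalWord letter w)⁻¹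
    rw [invWord, List.reverse_cons, List.map_append, evalWord_append, ← invWord,
      show evalWord letter (invWord w) = (evalWord letter w)⁻¹ from ih hw, mul_inv_rev]
    congr 1
    refine Subtype.ext ?_
    simp only [List.map_cons, List.map_nil, evalWord, mul_one, letter, dif_pos hl,
      dif_pos (linv_small hl), InvMemClass.coe_inv]
    exact val_linv lettersOK (by simp only [nl]; omega)

end Cfsg.Agent.RuMult82
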